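import Cfsg.Agent.Lib.SolvTransLinear.Sympl
import Cfsg.Agent.S2904

/-!
# Huppert's theorem on solvable transitive linear groups
-/

set_option autoImplicit false
set_option linter.unusedSectionVars false
set_option linter.unusedVariables false
set_option linter.style.haveILetI false

namespace Cfsg.Agent.Lib.SolvTransLinear

open scoped commutatorElement

universe u v

variable {q : ℕ} [Fact q.Prime] {V : Type u} [AddCommGroup V] [Module (ZMod q) V]
variable {G : Type v} [Group G] {ρ : G →* (V ≃ₗ[ZMod q] V)}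
variable {A M : Subgroup G} {s : ℕ}

/-- A prime primitive for `q ^ n - 1` is `1` modulo `n`. -/
theorem primitive_mod {a n r : ℕ} (ha : 1 < a) (hn : 0 < n) (hr : r.Prime) (hdvd : r ∣ a ^ n - 1)
    (hprim : ∀ k : ℕ, 0 < k → k < n → ¬ r ∣ a ^ k - 1) : n ∣ r - 1 := by
  haveI := Fact.mk hr
  have hra : ¬ r ∣ a := fun h => by
    have h2 : r ∣ a ^ n := h.trans (dvd_pow_self a hn.ne')
    have h3 := Nat.dvd_sub h2 hdvd
    rw [Nat.sub_sub_self (Nat.one_le_pow _ _ (by omega))] at h3
    exact hr.not_dvd_one h3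
  have hfer : r ∣ a ^ (r - 1) - 1 := by
    have h1 : (a : ZMod r) ^ (r - 1) = 1 :=
      ZMod.pow_card_sub_one_eq_one (fun h => hra ((ZMod.natCast_eq_zero_iff _ _).mp h))
    rw [← ZMod.natCast_eq_zero_iff, Nat.cast_sub (Nat.one_le_pow _ _ (by omega)), Nat.cast_pow,
      h1, Nat.cast_one, sub_self]
  have hg := Nat.dvd_gcd hdvd hfer
  rw [Nat.pow_sub_one_gcd_pow_sub_one] at hg
  have hpos : 0 < Nat.gcd n (r - 1) := Nat.gcd_pos_of_pos_left _ hn
  have hle : Nat.gcd n (r - 1) ≤ n := Nat.le_of_dvd hn (Nat.gcd_dvd_left _ _)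
  rcases lt_or_eq_of_le hle with hlt | heq
  · exact absurd hg (hprim _ hpos hlt)
  · exact heq ▸ Nat.gcd_dvd_right n (r - 1)

theorem card_nonzero_dvd [Finite V] [Nontrivial V] [Finite G]
    (htrans : ∀ v w : V, v ≠ 0 → w ≠ 0 → ∃ g : G, ρ g v = w) :
    q ^ Module.finrank (ZMod q) V - 1 ∣ Nat.card G := by
  classical
  haveI := Fintype.ofFinite V
  letI : MulAction G V :=
    { smul := fun g v => ρ g v
      one_smul := fun v => by show ρ 1 v = v; rw [map_one]; rfl
      mul_smul := fun a b v => by show ρ (a * b) v = ρ a (ρ b v); rw [map_mul]; rfl }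
  obtain ⟨v, hv⟩ := exists_ne (0 : V)
  have h1 := Subgroup.index_dvd_card (MulAction.stabilizer G v)
  rw [MulAction.index_stabilizer] at h1
  have h2 : MulAction.orbit G v = ({0}ᶜ : Set V) := by
    ext w
    refine ⟨?_, fun hw => ?_⟩
    · rintro ⟨g, rfl⟩ h0
      exact hv ((ρ g).map_eq_zero_iff.mp h0)
    · exact htrans v w hv hw
  rw [h2, Set.ncard_compl, Set.ncard_singleton] at h1
  rwa [Module.natCard_eq_pow_finrank (K := ZMod q), Nat.card_zmod] at h1

section

variable [Finite V] [Nontrivial V] [Finite G]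

theorem Setup.finrank_pos (h : Setup ρ A) : 0 < Module.finrank (ZMod q) (envAlg ρ A) := by
  haveI : Finite (Module.End (ZMod q) V) := Finite.of_injective _ DFunLike.coe_injective
  haveI : FiniteDimensional (ZMod q) (envAlg ρ A) := Module.Finite.of_finite
  letI := h.field
  exact Module.finrank_pos

theorem Setup.finrank_dvd (h : Setup ρ A) :
    Module.finrank (ZMod q) (envAlg ρ A) ∣ Module.finrank (ZMod q) V := by
  letI := h.field
  exact ⟨_, (Module.finrank_mul_finrank (ZMod q) (envAlg ρ A) V).symm⟩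

theorem Setup.not_centralizer_le (h : Setup ρ A)
    (hlt : Module.finrank (ZMod q) (envAlg ρ A) < Module.finrank (ZMod q) V) :
    ¬ Subgroup.centralizer (A : Set G) ≤ A := by
  intro hC
  set n := Module.finrank (ZMod q) V
  set d := Module.finrank (ZMod q) (envAlg ρ A)
  have hq : 1 < q := (Fact.out : q.Prime).one_lt
  have h1 : Nat.card G ≤ d * (q ^ d - 1) := by
    rw [← Subgroup.index_mul_card (Subgroup.centralizer (A : Set G))]
    refine Nat.mul_le_mul (Nat.le_of_dvd h.finrank_pos h.centralizer_index_dvd)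
      ((Subgroup.card_le_of_le hC).trans (Nat.le_of_dvd ?_ h.card_dvd))
    have : 1 < q ^ d := Nat.one_lt_pow h.finrank_pos.ne' hq
    omega
  have h2 := Nat.le_of_dvd Nat.card_pos (card_nonzero_dvd (ρ := ρ) h.trans)
  have h3 : 2 * d ≤ n := by
    obtain ⟨c, hc⟩ := h.finrank_dvd
    change n = d * c at hc
    rcases Nat.lt_or_ge c 2 with h' | h'
    · interval_cases c <;> omega
    · rw [hc, mul_comm 2]; exact Nat.mul_le_mul_left d h'
  have h4 : q ^ (2 * d) ≤ q ^ n := Nat.pow_le_pow_right (by omega) h3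
  have h5 : d < q ^ d := Nat.lt_pow_self hq
  rw [two_mul, pow_add] at h4
  have h6 : q ^ n - 1 ≤ d * (q ^ d - 1) := h2.trans h1
  set Q := q ^ d
  set N := q ^ n
  have h7 : d * (Q - 1) + d = d * Q := by
    rw [Nat.mul_sub, mul_one]; exact Nat.sub_add_cancel (Nat.le_mul_of_pos_right _ (by omega))
  have h8 : d * Q + Q ≤ Q * Q :=
    le_trans (le_of_eq (Nat.succ_mul d Q).symm) (Nat.mul_le_mul_right Q h5)
  have hd0 : 0 < d := h.finrank_pos
  omega

theorem IsSymp.ne_top (hS : IsSymp A M s) (hA : IsMaxAb A) : M ≠ ⊤ := by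
  intro hM
  haveI := hA.normal
  obtain ⟨u, huM, huA⟩ := SetLike.not_le_iff_exists.mp hS.not_le
  let B := A ⊔ Subgroup.zpowers u
  have hu : ∀ a ∈ A, a * u = u * a := fun a ha =>
    Subgroup.mem_centralizer_iff.mp (hS.le_centralizer huM) a ha
  have h3 : B ≤ Subgroup.centralizer ({u} : Set G) :=
    sup_le (fun a ha => Subgroup.mem_centralizer_singleton_iff.mpr (hu a ha))
      (Subgroup.zpowers_le.mpr (Subgroup.mem_centralizer_singleton_iff.mpr rfl))
  have hBc : ∀ a ∈ B, ∀ b ∈ B, a * b = b * a := by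
    have h1 : A ≤ Subgroup.centralizer (B : Set G) := by
      rw [Subgroup.le_centralizer_iff]
      exact sup_le (fun a ha => Subgroup.mem_centralizer_iff.mpr fun c hc => hA.comm c hc a ha)
        (Subgroup.zpowers_le.mpr (hS.le_centralizer huM))
    have h2 : Subgroup.zpowers u ≤ Subgroup.centralizer (B : Set G) := by
      rw [Subgroup.zpowers_le, Subgroup.mem_centralizer_iff]
      exact fun a ha => Subgroup.mem_centralizer_singleton_iff.mp (h3 ha)
    intro a ha b hb
    exact (Subgroup.mem_centralizer_iff.mp ((sup_le h1 h2) ha) b hb).symm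
  have hBn : B.Normal := ⟨fun a ha g => by
    have h4 : g * a * g⁻¹ = ⁅g, a⁆ * a := by rw [commutatorElement_def, inv_mul_cancel_right]
    rw [h4]
    exact mul_mem (Subgroup.mem_sup_left (hS.comm_mem g (hM ▸ trivial) a (hM ▸ trivial))) ha⟩
  exact huA (hA.max B hBn hBc le_sup_left (Subgroup.mem_sup_right (Subgroup.mem_zpowers u)))

theorem IsSymp.dvd_card (hS : IsSymp A M s) : s ∣ Nat.card A ∧ s ∣ Nat.card (A.subgroupOf M) := by
  obtain ⟨u, huM, huA⟩ := SetLike.not_le_iff_exists.mp hS.not_le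
  obtain ⟨v, hvM, hne⟩ : ∃ v ∈ M, u * v ≠ v * u := by
    by_contra hh
    push Not at hh
    exact huA (hS.center_le u huM hh)
  set z := ⁅u, v⁆ with hz
  have hzA := hS.comm_mem u huM v hvM
  have hz1 : z ≠ 1 := fun h => hne (commutatorElement_eq_one_iff_mul_comm.mp h)
  have hzv : Commute z v := Subgroup.mem_centralizer_iff.mp (hS.le_centralizer hvM) z hzA
  have h1 : ∀ k : ℕ, u * v ^ k * u⁻¹ = z ^ k * v ^ k := fun k => by
    rw [← hzv.mul_pow, ← conj_pow]
    congr 1
    rw [hz, commutatorElement_def, inv_mul_cancel_right]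
  have h2 := h1 s
  have h3 : u * v ^ s * u⁻¹ = v ^ s := by
    rw [mul_inv_eq_iff_eq_mul]
    exact (Subgroup.mem_centralizer_iff.mp (hS.le_centralizer huM) _ (hS.pow_mem v hvM)).symm
  rw [h3, eq_comm, mul_eq_right] at h2
  haveI := Fact.mk hS.prime
  have ho : orderOf z = s := orderOf_eq_prime h2 hz1
  refine ⟨ho ▸ Subgroup.orderOf_dvd_natCard A hzA, ?_⟩
  have hzM : z ∈ M := by
    rw [hz, commutatorElement_def]
    exact mul_mem (mul_mem (mul_mem huM hvM) (inv_mem huM)) (inv_mem hvM)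
  have := Subgroup.orderOf_dvd_natCard (A.subgroupOf M) (x := ⟨z, hzM⟩) hzA
  rwa [← Subgroup.orderOf_coe, ho] at this

/-- Conjugation on `M` modulo `A`. -/
noncomputable def IsSymp.qact (hA : A.Normal) (hM : M.Normal) :
    G →* Equiv.Perm (M ⧸ A.subgroupOf M) :=
  haveI := hA
  haveI := hM
  haveI : (A.subgroupOf M).Normal := Subgroup.Normal.subgroupOf inferInstance M
  let f : G → (M ⧸ A.subgroupOf M →* M ⧸ A.subgroupOf M) := fun g =>
    QuotientGroup.map _ _ (MulAut.conjNormal g : MulAut M).toMonoidHom fun x hx =>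
      Subgroup.mem_subgroupOf.mpr (by
        show ((MulAut.conjNormal g x : M) : G) ∈ A
        rw [MulAut.conjNormal_apply]
        exact hA.conj_mem _ (Subgroup.mem_subgroupOf.mp hx) g)
  have hf : ∀ g g' c, f (g * g') c = f g (f g' c) := fun g g' c => by
    refine QuotientGroup.induction_on c fun x => ?_
    show QuotientGroup.mk (MulAut.conjNormal (g * g') x) =
      (QuotientGroup.mk (MulAut.conjNormal g (MulAut.conjNormal g' x)) : M ⧸ A.subgroupOf M)
    rw [map_mul]
    rfl
  have hone : ∀ c, f 1 c = c := fun c => by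
    refine QuotientGroup.induction_on c fun x => ?_
    show QuotientGroup.mk (MulAut.conjNormal (1 : G) x) =
      (QuotientGroup.mk x : M ⧸ A.subgroupOf M)
    rw [map_one]
    rfl
  MonoidHom.mk' (fun g => ⟨f g, f g⁻¹, fun c => by rw [← hf, inv_mul_cancel, hone],
      fun c => by rw [← hf, mul_inv_cancel, hone]⟩)
    fun g g' => Equiv.ext fun c => hf g g' c

theorem IsSymp.qact_fix (hA : A.Normal) (hM : M.Normal) (g : G) (u : M) :
    IsSymp.qact hA hM g (QuotientGroup.mk u) = QuotientGroup.mk u ↔ ⁅g, (u : G)⁆ ∈ A := by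
  haveI := hM
  show QuotientGroup.mk (MulAut.conjNormal g u) = (QuotientGroup.mk u : M ⧸ A.subgroupOf M) ↔ _
  rw [eq_comm, QuotientGroup.eq, Subgroup.mem_subgroupOf, Subgroup.coe_mul, Subgroup.coe_inv,
    MulAut.conjNormal_apply, commutatorElement_def]
  constructor
  · intro h
    have := hA.conj_mem _ h u
    simpa [mul_assoc] using this
  · intro h
    have := hA.conj_mem _ h (u : G)⁻¹
    simpa [mul_assoc] using this

theorem IsSymp.qact_one (hA : A.Normal) (hM : M.Normal) (g : G) :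
    IsSymp.qact hA hM g (QuotientGroup.mk 1) = QuotientGroup.mk (1 : M) := by
  rw [IsSymp.qact_fix]
  simp

/-- An element of order prime to `|A|` centralizing `A` and fixing a coset commutes with it. -/
theorem commute_of_fixed (hAn : ∀ a ∈ A, ∀ x ∈ Subgroup.centralizer (A : Set G), a * x = x * a)
    {r : ℕ} (hr : r.Prime) (hrA : ¬ r ∣ Nat.card A) {x : G} (hx : orderOf x = r)
    (hxC : x ∈ Subgroup.centralizer (A : Set G)) {u : G} (hu : ⁅x, u⁆ ∈ A) : x * u = u * x := by
  set z := ⁅x, u⁆ with hz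
  have hzx : Commute z x := hAn z hu x hxC
  have h1 : ∀ k : ℕ, x ^ k * u * (x ^ k)⁻¹ = z ^ k * u := by
    intro k
    induction k with
    | zero => simp
    | succ k ih =>
      rw [pow_succ' x, mul_inv_rev, show x * x ^ k * u * ((x ^ k)⁻¹ * x⁻¹) =
        x * (x ^ k * u * (x ^ k)⁻¹) * x⁻¹ by simp [mul_assoc], ih,
        show x * (z ^ k * u) * x⁻¹ = z ^ k * (x * u * x⁻¹) by
          rw [← mul_assoc, ← (hzx.pow_left k).eq]; simp [mul_assoc],
        show x * u * x⁻¹ = z * u by rw [hz, commutatorElement_def, inv_mul_cancel_right],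
        ← mul_assoc, pow_succ]
  have h2 := h1 r
  rw [← hx, pow_orderOf_eq_one, one_mul, inv_one, mul_one, eq_comm, mul_eq_right, hx] at h2
  by_contra hne
  haveI := Fact.mk hr
  exact hrA (orderOf_eq_prime h2 (fun h => hne (commutatorElement_eq_one_iff_mul_comm.mp h)) ▸
    Subgroup.orderOf_dvd_natCard A hu)

/-- Burnside's count for a semiregular action away from one point. -/
theorem card_dvd_of_semiregular {P : Type*} [Group P] [Finite P] {α : Type*} [Finite α]
    [MulAction P α] (o : α) (h : ∀ g : P, g ≠ 1 → ∀ a : α, g • a = a ↔ a = o) :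
    Nat.card P ∣ Nat.card α - 1 := by
  classical
  haveI := Fintype.ofFinite P
  haveI := Fintype.ofFinite α
  haveI := Fintype.ofFinite (Quotient (MulAction.orbitRel P α))
  have hB := MulAction.sum_card_fixedBy_eq_card_orbits_mul_card_group P α
  rw [← Finset.add_sum_erase _ _ (Finset.mem_univ (1 : P))] at hB
  have h1 : Fintype.card (MulAction.fixedBy α (1 : P)) = Fintype.card α :=
    Fintype.card_congr (Equiv.subtypeUnivEquiv fun a => one_smul P a)
  have h2 : ∀ g ∈ (Finset.univ : Finset P).erase 1, Fintype.card (MulAction.fixedBy α g) = 1 := by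
    intro g hg
    have hg1 := (Finset.mem_erase.mp hg).1
    rw [Fintype.card_eq_one_iff]
    exact ⟨⟨o, (h g hg1 o).mpr rfl⟩, fun a => Subtype.ext ((h g hg1 a).mp a.2)⟩
  rw [h1, Finset.sum_congr rfl h2, Finset.sum_const, smul_eq_mul, mul_one,
    Finset.card_erase_of_mem (Finset.mem_univ _), Finset.card_univ] at hB
  rw [Nat.card_eq_fintype_card, Nat.card_eq_fintype_card]
  have hP : 0 < Fintype.card P := Fintype.card_pos
  have hα : 0 < Fintype.card α := Fintype.card_pos_iff.mpr ⟨o⟩
  set w := Fintype.card (Quotient (MulAction.orbitRel P α))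
  refine ⟨w - 1, ?_⟩
  rw [Nat.mul_sub, mul_one, mul_comm]
  omega

/-- A primitive prime gives a semiregular action on `M` modulo `A`. -/
theorem Setup.fixed_iff (h : Setup ρ A) (hS : IsSymp A M s) {r : ℕ} (hr : r.Prime) (hrq : r ≠ q)
    (hprim : ∀ k : ℕ, 0 < k → k < Module.finrank (ZMod q) V → ¬ r ∣ q ^ k - 1)
    (hrA : ¬ r ∣ Nat.card A) {x : G} (hx : orderOf x = r)
    (hxC : x ∈ Subgroup.centralizer (A : Set G)) (u : M) :
    IsSymp.qact h.maxAb.normal hS.normal x (QuotientGroup.mk u) = QuotientGroup.mk u ↔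
      (u : G) ∈ A := by
  classical
  haveI := Fact.mk hr
  haveI := h.maxAb.normal
  haveI := hS.normal
  letI := h.field
  rw [IsSymp.qact_fix]
  refine ⟨fun hu => ?_, fun hu => ?_⟩
  swap
  · rw [commutatorElement_eq_one_iff_mul_comm.mpr
      (Subgroup.mem_centralizer_iff.mp hxC _ hu).symm]
    exact one_mem A
  have hxu := commute_of_fixed (A := A) (fun a ha y hy => Subgroup.mem_centralizer_iff.mp hy a ha)
    hr hrA hx hxC hu
  refine hS.chi_trivial h.inj fun w => ?_
  -- the kernel of the pairing with `u`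
  set N := (hS.chi ρ u).ker with hN
  have hmem : ∀ a : M, a ∈ N ↔ (u : G) * a = a * u := fun a => by
    rw [hN, MonoidHom.mem_ker, hS.chi_eq_one_iff h.inj]
  have hrM : ¬ r ∣ Nat.card N := by
    intro hd
    have hd2 := hd.trans (Subgroup.card_subgroup_dvd_card N)
    by_cases hrs : r = s
    · exact hrA (hrs ▸ hS.dvd_card.1)
    · exact h.not_dvd_card hS hr hrs hrA hd2
  let P := Subgroup.zpowers x
  have hP : IsPGroup r P := IsPGroup.of_card (n := 1) (by rw [Nat.card_zpowers, hx, pow_one])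
  have hinvk : ∀ k : ℕ, ∀ a : M, w⁻¹ * a ∈ N →
      w⁻¹ * (MulAut.conjNormal (x ^ k) a) ∈ N := by
    intro k a ha
    have hka : hS.chi ρ u (MulAut.conjNormal (x ^ k) a) = hS.chi ρ u a := Subtype.ext (by
      rw [hS.chi_apply, hS.chi_apply, MulAut.conjNormal_apply]
      congr 1
      have hc1 : Commute (x ^ k) (u : G) := Commute.pow_left hxu k
      have hc2 : Commute (x ^ k) ⁅(u : G), (a : G)⁆ :=
        (Subgroup.mem_centralizer_iff.mp (pow_mem hxC k) _ (hS.comm_mem u u.2 a a.2)).symm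
      calc ⁅(u : G), x ^ k * a * (x ^ k)⁻¹⁆
          = ⁅x ^ k * u * (x ^ k)⁻¹, x ^ k * a * (x ^ k)⁻¹⁆ := by
            rw [hc1.eq, mul_inv_cancel_right]
        _ = x ^ k * ⁅(u : G), (a : G)⁆ * (x ^ k)⁻¹ := by simp [commutatorElement_def, mul_assoc]
        _ = _ := by rw [hc2.eq, mul_inv_cancel_right])
    rw [hN, MonoidHom.mem_ker, map_mul, hka, ← map_mul]
    exact ha
  have hinv : ∀ (g : P) (a : M), w⁻¹ * a ∈ N → w⁻¹ * (MulAut.conjNormal (g : G) a) ∈ N := by
    intro g a ha
    obtain ⟨k, hk⟩ : ∃ k : ℕ, x ^ k = (g : G) := by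
      have h1 : (g : G) ∈ Subgroup.zpowers x := g.2
      rwa [← mem_powers_iff_mem_zpowers, Submonoid.mem_powers_iff] at h1
    rw [← hk]
    exact hinvk k a ha
  letI : MulAction P {a : M // w⁻¹ * a ∈ N} :=
    { smul := fun g a => ⟨MulAut.conjNormal (g : G) a.1, hinv g a.1 a.2⟩
      one_smul := fun a => Subtype.ext (by
        show MulAut.conjNormal ((1 : P) : G) a.1 = a.1
        rw [Subgroup.coe_one, map_one]; rfl)
      mul_smul := fun g g' a => Subtype.ext (by
        show MulAut.conjNormal ((g * g' : P) : G) a.1 =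
          MulAut.conjNormal (g : G) (MulAut.conjNormal (g' : G) a.1)
        rw [Subgroup.coe_mul, map_mul]; rfl) }
  have hcard : Nat.card {a : M // w⁻¹ * a ∈ N} = Nat.card N :=
    Nat.card_congr
      { toFun := fun a => ⟨_, a.2⟩
        invFun := fun a => ⟨w * a, by simpa using a.2⟩
        left_inv := fun a => by simp
        right_inv := fun a => by simp }
  obtain ⟨⟨a, ha⟩, hfix⟩ := hP.nonempty_fixed_point_of_prime_not_dvd_card
    {a : M // w⁻¹ * a ∈ N} (hcard ▸ hrM)
  have h3 : x * (a : G) * x⁻¹ = a :=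
    congrArg (fun t : {a : M // w⁻¹ * a ∈ N} => ((t.1 : M) : G))
      (hfix ⟨x, Subgroup.mem_zpowers x⟩)
  have hau : (u : G) * a = a * u := by
    have h4 : toEnd ρ x * toEnd ρ (u : G) = toEnd ρ (u : G) * toEnd ρ x := by
      rw [← map_mul, ← map_mul, hxu]
    have h5 : toEnd ρ x * toEnd ρ (a : G) = toEnd ρ (a : G) * toEnd ρ x := by
      rw [← map_mul, ← map_mul, mul_inv_eq_iff_eq_mul.mp h3]
    have := commute_of_commute_primitive ρ h.inj hrq hprim hx h4 h5
    rw [← map_mul, ← map_mul] at this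
    exact toEnd_injective ρ h.inj this
  have hw : w ∈ N := by
    have h6 := N.mul_mem ((hmem a).mpr hau) (N.inv_mem ha)
    rwa [mul_inv_rev, inv_inv, mul_inv_cancel_left] at h6
  exact MonoidHom.mem_ker.mp hw

theorem Setup.semiregular_dvd (h : Setup ρ A) (hS : IsSymp A M s) {r : ℕ} (hr : r.Prime)
    (hrq : r ≠ q)
    (hprim : ∀ k : ℕ, 0 < k → k < Module.finrank (ZMod q) V → ¬ r ∣ q ^ k - 1)
    (hrA : ¬ r ∣ Nat.card A) (P : Subgroup G) (hP : IsPGroup r P)
    (hPC : P ≤ Subgroup.centralizer (A : Set G)) :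
    Nat.card P ∣ (A.subgroupOf M).index - 1 := by
  classical
  haveI := Fact.mk hr
  letI : MulAction P (M ⧸ A.subgroupOf M) :=
    MulAction.compHom _ ((IsSymp.qact h.maxAb.normal hS.normal).comp P.subtype)
  rw [Subgroup.index_eq_card]
  refine card_dvd_of_semiregular (QuotientGroup.mk 1) fun g hg c => ?_
  constructor
  · intro hc
    obtain ⟨j, hj⟩ := IsPGroup.iff_orderOf.mp hP g
    rcases Nat.eq_zero_or_pos j with rfl | hjp
    · rw [pow_zero, orderOf_eq_one_iff] at hj
      exact absurd hj hg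
    have hy : orderOf (g ^ r ^ (j - 1)) = r := by
      rw [orderOf_pow_of_dvd (pow_ne_zero _ hr.ne_zero) (hj ▸ pow_dvd_pow r (Nat.sub_le j 1)), hj,
        Nat.pow_div (Nat.sub_le j 1) hr.pos, show j - (j - 1) = 1 by omega, pow_one]
    have hyc : (g ^ r ^ (j - 1)) • c = c := by
      have hmem : g ∈ MulAction.stabilizer P c := hc
      exact pow_mem hmem _
    revert hyc
    refine QuotientGroup.induction_on c fun u => fun hyc => ?_
    have h1 := (h.fixed_iff hS hr hrq hprim hrA (x := ((g ^ r ^ (j - 1) : P) : G))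
      (by rw [Subgroup.orderOf_coe]; exact hy) (hPC (g ^ r ^ (j - 1)).2) u).mp hyc
    refine QuotientGroup.eq.mpr (Subgroup.mem_subgroupOf.mpr ?_)
    simpa using h1
  · rintro rfl
    exact IsSymp.qact_one h.maxAb.normal hS.normal _

theorem Setup.eq_mem (h : Setup ρ A) {g : G} (hg : toEnd ρ g ∈ envAlg ρ A) : g ∈ A := by
  haveI := h.maxAb.normal
  let B : Subgroup G :=
    { carrier := {a | toEnd ρ a ∈ envAlg ρ A}
      one_mem' := by show toEnd ρ 1 ∈ envAlg ρ A; rw [map_one]; exact one_mem _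
      mul_mem' := fun {a b} ha hb => by
        show toEnd ρ (a * b) ∈ envAlg ρ A
        rw [map_mul]; exact mul_mem ha hb
      inv_mem' := fun {a} ha => by
        have hfin : IsOfFinOrder a := isOfFinOrder_of_finite a
        obtain ⟨k, hk⟩ := hfin.mem_powers_iff_mem_zpowers.mpr
          (inv_mem (Subgroup.mem_zpowers a))
        show toEnd ρ a⁻¹ ∈ envAlg ρ A
        rw [← hk]
        show toEnd ρ (a ^ k) ∈ envAlg ρ A
        rw [map_pow]; exact pow_mem ha k }
  have hB : B.Normal := ⟨fun a ha x => by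
    show toEnd ρ (x * a * x⁻¹) ∈ envAlg ρ A
    rw [← conjEnd_toEnd]
    exact conjEnd_mem ρ x ha⟩
  exact h.maxAb.max B hB
    (fun a ha b hb => toEnd_injective ρ h.inj (by
      rw [map_mul, map_mul]; exact envAlg_comm ρ h.maxAb.comm _ ha _ hb))
    (fun a ha => toEnd_mem_envAlg ρ ha) hg

/-- The two-dimensional case. -/
theorem Setup.dim_two (h : Setup ρ A) (hS : IsSymp A M s)
    (hn : Module.finrank (ZMod q) V = 2) :
    s = 2 ∧ Module.finrank (ZMod q) (envAlg ρ A) = 1 ∧ (A.subgroupOf M).index = 4 ∧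
      Nat.card G ∣ 24 * Nat.card A := by
  classical
  haveI := h.maxAb.normal
  haveI := hS.normal
  letI := h.field
  obtain ⟨m, hm, hidx, hle, heq⟩ := h.symp_bound hS
  set d := Module.finrank (ZMod q) (envAlg ρ A)
  have hd : 0 < d := h.finrank_pos
  have hs2 := hS.prime.two_le
  have hsm : s ≤ s ^ m := Nat.le_self_pow hm.ne' s
  rw [hn] at hle
  have hd1 : d = 1 := by
    by_contra hne
    have h2 : 2 * 2 ≤ s ^ m * d := Nat.mul_le_mul (hs2.trans hsm) (by omega)
    omega
  rw [hd1, mul_one] at hle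
  have hs : s = 2 := by omega
  have hsm2 : s ^ m = 2 := by omega
  have hidx4 : (A.subgroupOf M).index = 4 := by
    rw [hidx, two_mul, pow_add, hsm2] <;> norm_num
  have hCtop : ∀ g : G, g ∈ Subgroup.centralizer (A : Set G) := fun g => by
    have h1 := h.centralizer_index_dvd
    change _ ∣ d at h1
    rw [hd1, Nat.dvd_one, Subgroup.index_eq_one] at h1
    exact h1 ▸ Subgroup.mem_top g
  refine ⟨hs, hd1, hidx4, ?_⟩
  let Φ := IsSymp.qact h.maxAb.normal hS.normal
  let o : M ⧸ A.subgroupOf M := QuotientGroup.mk 1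
  have hfix : ∀ g c, c ≠ o ↔ Φ g c ≠ o := fun g c => by
    constructor
    · intro hc he
      exact hc ((Φ g).injective (he.trans (IsSymp.qact_one _ _ _).symm))
    · rintro hc rfl
      exact hc (IsSymp.qact_one _ _ _)
  let φ : G →* Equiv.Perm {c : M ⧸ A.subgroupOf M // c ≠ o} :=
    MonoidHom.mk' (fun g => (Φ g).subtypePerm fun c => (hfix g c).symm) fun g g' =>
      Equiv.ext fun c => Subtype.ext (by
        show Φ (g * g') c.1 = Φ g (Φ g' c.1)
        rw [map_mul]; rfl)
  have hker : ∀ g ∈ φ.ker, ∀ u : M, ⁅g, (u : G)⁆ ∈ A := by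
    intro g hg u
    by_cases hu : (QuotientGroup.mk u : M ⧸ A.subgroupOf M) = o
    · refine (IsSymp.qact_fix h.maxAb.normal hS.normal g u).mp ?_
      rw [hu]; exact IsSymp.qact_one _ _ _
    · refine (IsSymp.qact_fix h.maxAb.normal hS.normal g u).mp ?_
      exact congrArg (fun σ : Equiv.Perm {c : M ⧸ A.subgroupOf M // c ≠ o} =>
        ((σ ⟨_, hu⟩ : {c // c ≠ o}) : M ⧸ A.subgroupOf M)) (MonoidHom.mem_ker.mp hg)
  have h6 : φ.ker.index ∣ 6 := by
    haveI := Fintype.ofFinite (M ⧸ A.subgroupOf M)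
    rw [Subgroup.index_ker]
    refine (Subgroup.card_subgroup_dvd_card φ.range).trans ?_
    rw [Nat.card_eq_fintype_card, Fintype.card_perm, Fintype.card_subtype_compl,
      Fintype.card_subtype_eq, ← Nat.card_eq_fintype_card, ← Subgroup.index_eq_card, hidx4]
    decide
  set K0 := φ.ker
  have hAK : A ≤ K0 := fun a ha => by
    refine MonoidHom.mem_ker.mpr (Equiv.ext fun c => Subtype.ext ?_)
    show Φ a c.1 = c.1
    obtain ⟨u, hu⟩ := QuotientGroup.mk_surjective c.1
    rw [← hu]
    refine (IsSymp.qact_fix h.maxAb.normal hS.normal a u).mpr ?_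
    rw [commutatorElement_eq_one_iff_mul_comm.mpr
      (Subgroup.mem_centralizer_iff.mp (hS.le_centralizer u.2) a ha)]
    exact one_mem A
  -- the homomorphisms of `M` given by the kernel
  let hom : K0 → (M →* envAlg ρ A) := fun g =>
    { toFun := fun u => ⟨toEnd ρ ⁅(g : G), (u : G)⁆, toEnd_mem_envAlg ρ (hker g g.2 u)⟩
      map_one' := Subtype.ext (by simp)
      map_mul' := fun u w => Subtype.ext (by
        show toEnd ρ ⁅(g : G), ((u * w : M) : G)⁆ =
          toEnd ρ ⁅(g : G), (u : G)⁆ * toEnd ρ ⁅(g : G), (w : G)⁆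
        rw [← map_mul]
        congr 1
        have h2 : ⁅(g : G), (w : G)⁆ * u = u * ⁅(g : G), (w : G)⁆ :=
          Subgroup.mem_centralizer_iff.mp (hCtop u) _ (hker g g.2 w)
        calc ⁅(g : G), ((u * w : M) : G)⁆
            = ⁅(g : G), (u : G)⁆ * ((u : G) * ⁅(g : G), (w : G)⁆ * (u : G)⁻¹) := by
              simp [commutatorElement_def, mul_assoc]
          _ = _ := by rw [← h2, mul_inv_cancel_right]) }
  have hcomm_mem : ∀ g : G, (∀ u ∈ M, g * u = u * g) → g ∈ A := fun g hg =>
    h.eq_mem (heq (by rw [hn, hsm2]; omega) g (hCtop g) hg)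
  have hdiff : ∀ g g' : K0, hom g = hom g' → (g : G)⁻¹ * g' ∈ A := by
    intro g g' he
    refine hcomm_mem _ fun u hu => ?_
    have h3' : hom g ⟨u, hu⟩ = hom g' ⟨u, hu⟩ := by rw [he]
    have h3 : ⁅(g : G), u⁆ = ⁅(g' : G), u⁆ := toEnd_injective ρ h.inj
      (congrArg Subtype.val h3')
    rw [commutatorElement_def, commutatorElement_def, mul_left_inj, mul_inv_eq_iff_eq_mul] at h3
    calc (g : G)⁻¹ * g' * u = (g : G)⁻¹ * ((g' : G) * u * (g' : G)⁻¹ * g') := by
          simp [mul_assoc]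
      _ = (g : G)⁻¹ * ((g : G) * u) * ((g : G)⁻¹ * g') := by rw [h3]; simp [mul_assoc]
      _ = u * ((g : G)⁻¹ * g') := by simp
  haveI : (A.subgroupOf K0).Normal := Subgroup.Normal.subgroupOf inferInstance K0
  haveI : (A.subgroupOf M).Normal := Subgroup.Normal.subgroupOf inferInstance M
  have h4 : (A.subgroupOf K0).index ≤ 4 := by
    rw [Subgroup.index_eq_card, ← hidx4]
    refine card_le_index (R := envAlg ρ A) (A.subgroupOf M) (fun c => hom c.out)
      (fun c c' he => ?_) fun c x hx => Subtype.ext ?_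
    · rw [← c.out_eq', ← c'.out_eq', QuotientGroup.eq]
      exact Subgroup.mem_subgroupOf.mpr (hdiff _ _ he)
    · show toEnd ρ ⁅((c.out : K0) : G), (x : G)⁆ = 1
      rw [commutatorElement_eq_one_iff_mul_comm.mpr, map_one]
      exact (Subgroup.mem_centralizer_iff.mp (hCtop _) _ (Subgroup.mem_subgroupOf.mp hx)).symm
  have h4' : (A.subgroupOf K0).index ∣ 4 := by
    haveI : Fact (Nat.Prime 2) := ⟨Nat.prime_two⟩
    have hp : IsPGroup 2 (K0 ⧸ A.subgroupOf K0) := fun c => ⟨1, by
      rw [pow_one]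
      refine QuotientGroup.induction_on c fun g => ?_
      rw [← QuotientGroup.mk_pow, QuotientGroup.eq_one_iff]
      refine Subgroup.mem_subgroupOf.mpr (hcomm_mem _ fun u hu => ?_)
      set z := ⁅(g : G), u⁆ with hz
      have hzA : z ∈ A := hker g g.2 ⟨u, hu⟩
      have hzu : Commute z u := Subgroup.mem_centralizer_iff.mp (hCtop u) z hzA
      have hzg : Commute z g := Subgroup.mem_centralizer_iff.mp (hCtop g) z hzA
      have h5 : (g : G) * u * (g : G)⁻¹ = z * u := by
        rw [hz, commutatorElement_def, inv_mul_cancel_right]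
      have h6 : z * z = 1 := by
        have h7 : (g : G) * (u * u) * (g : G)⁻¹ = u * u := by
          rw [mul_inv_eq_iff_eq_mul]
          exact (Subgroup.mem_centralizer_iff.mp (hCtop g) _
            (by rw [← pow_two, ← hs]; exact hS.pow_mem u hu)).symm
        rw [show (g : G) * (u * u) * (g : G)⁻¹ =
          ((g : G) * u * (g : G)⁻¹) * ((g : G) * u * (g : G)⁻¹) by simp [mul_assoc], h5,
          mul_assoc, ← mul_assoc u z u, ← hzu.eq, mul_assoc, ← mul_assoc] at h7
        exact mul_eq_right.mp h7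
      have h8 : (g : G) * u = z * u * g := mul_inv_eq_iff_eq_mul.mp h5
      calc ((g ^ 2 : K0) : G) * u = (g : G) * ((g : G) * u) := by
            rw [Subgroup.coe_pow, pow_two, mul_assoc]
        _ = (g : G) * (z * u * g) := by rw [← h8]
        _ = z * ((g : G) * u) * g := by rw [← mul_assoc, ← mul_assoc, ← hzg.eq, mul_assoc z]
        _ = (z * z) * u * (g * g) := by rw [h8]; simp [mul_assoc]
        _ = u * ((g ^ 2 : K0) : G) := by rw [h6, one_mul, Subgroup.coe_pow, pow_two]⟩
    obtain ⟨j, hj⟩ := IsPGroup.iff_card.mp hp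
    rw [← Subgroup.index_eq_card] at hj
    rw [hj] at h4 ⊢
    exact (pow_dvd_pow 2 (show j ≤ 2 by
      by_contra hj3
      have : 2 ^ 3 ≤ 2 ^ j := Nat.pow_le_pow_right (by norm_num) (by omega)
      omega)).trans (by norm_num)
  have h9 : Nat.card G = K0.index * ((A.subgroupOf K0).index * Nat.card A) := by
    rw [← Nat.card_congr (Subgroup.subgroupOfEquivOfLe hAK).toEquiv, Subgroup.index_mul_card,
      Subgroup.index_mul_card]
  rw [h9, ← mul_assoc]
  exact Nat.mul_dvd_mul_right (Nat.mul_dvd_mul h6 h4') _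

/-- There is no exception with sixty-four vectors. -/
theorem Setup.not_two_six (h : Setup ρ A) (hS : IsSymp A M s) (hq : q = 2)
    (hn : Module.finrank (ZMod q) V = 6) : False := by
  classical
  haveI := h.maxAb.normal
  haveI := hS.normal
  letI := h.field
  obtain ⟨m, hm, hidx, hle, heq⟩ := h.symp_bound hS
  set d := Module.finrank (ZMod q) (envAlg ρ A)
  have hd : 0 < d := h.finrank_pos
  have hsm : s ≤ s ^ m := Nat.le_self_pow hm.ne' s
  have hs2 : s ≠ 2 := hq ▸ h.s_ne hS hd
  have hsA : s ∣ 2 ^ d - 1 := hq ▸ hS.dvd_card.1.trans h.card_dvd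
  have hcard : Nat.card A ∣ 2 ^ d - 1 := hq ▸ h.card_dvd
  have hs3 : 3 ≤ s := by have := hS.prime.two_le; omega
  rw [hn] at hle
  have hd2 : d ≤ 2 := by
    by_contra hc
    have : 3 * 3 ≤ s ^ m * d := Nat.mul_le_mul (hs3.trans hsm) (by omega)
    omega
  have hdne : d ≠ 1 := by
    intro h1
    rw [h1] at hsA
    exact hS.prime.ne_one (Nat.dvd_one.mp (by simpa using hsA))
  have hdeq : d = 2 := by omega
  rw [hdeq] at hle hcard
  have hsm3 : s ^ m = 3 := by omega
  have hidx9 : (A.subgroupOf M).index = 9 := by rw [hidx, two_mul, pow_add, hsm3] <;> norm_num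
  haveI : Fact (Nat.Prime 7) := ⟨by norm_num⟩
  have h7 : 7 ∣ Nat.card G := by
    have h1 := card_nonzero_dvd (ρ := ρ) h.trans
    rw [hn, hq] at h1
    exact (show 7 ∣ 2 ^ 6 - 1 by norm_num).trans h1
  have h7C : 7 ∣ Nat.card (Subgroup.centralizer (A : Set G)) := by
    rw [← Subgroup.index_mul_card (Subgroup.centralizer (A : Set G))] at h7
    rcases (Nat.Prime.dvd_mul (by norm_num)).mp h7 with h1 | h1
    · exact absurd (Nat.le_of_dvd hd (h1.trans h.centralizer_index_dvd)) (by omega)
    · exact h1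
  obtain ⟨x, hx⟩ := exists_prime_orderOf_dvd_card' 7 h7C
  have h7A : ¬ 7 ∣ Nat.card A := fun h1 =>
    absurd (Nat.le_of_dvd (by norm_num) (h1.trans hcard)) (by omega)
  have hx7 : orderOf (x : G) = 7 := by rw [Subgroup.orderOf_coe]; exact hx
  haveI : (A.subgroupOf M).Normal := Subgroup.Normal.subgroupOf inferInstance M
  let P := Subgroup.zpowers (x : G)
  letI : MulAction P (M ⧸ A.subgroupOf M) :=
    MulAction.compHom _ ((IsSymp.qact h.maxAb.normal hS.normal).comp P.subtype)
  have hP : IsPGroup 7 P := IsPGroup.of_card (n := 1) (by rw [Nat.card_zpowers, hx7, pow_one])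
  have hmod := hP.card_modEq_card_fixedPoints (α := M ⧸ A.subgroupOf M)
  rw [← Subgroup.index_eq_card, hidx9] at hmod
  -- the fixed points form the image of a subgroup
  let F : Subgroup M :=
    { carrier := {u | (x : G) * u = u * x}
      one_mem' := by simp
      mul_mem' := fun {a b} (ha : (x : G) * a = a * x) (hb : (x : G) * b = b * x) => by
        show (x : G) * ((a * b : M) : G) = ((a * b : M) : G) * x
        rw [Subgroup.coe_mul, ← mul_assoc, ha, mul_assoc, hb, mul_assoc]
      inv_mem' := fun {a} (ha : (x : G) * a = a * x) => by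
        show (x : G) * ((a⁻¹ : M) : G) = ((a⁻¹ : M) : G) * x
        rw [Subgroup.coe_inv]
        exact (Commute.inv_right ha).eq }
  have hfixed : ∀ u : M, (QuotientGroup.mk u : M ⧸ A.subgroupOf M) ∈
      MulAction.fixedPoints P (M ⧸ A.subgroupOf M) ↔ u ∈ F := by
    intro u
    constructor
    · intro hu
      exact commute_of_fixed (A := A) (fun a ha y hy => Subgroup.mem_centralizer_iff.mp hy a ha)
        (by norm_num) h7A hx7 x.2 ((IsSymp.qact_fix h.maxAb.normal hS.normal _ u).mp
          (hu ⟨(x : G), Subgroup.mem_zpowers _⟩))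
    · intro hu g
      show IsSymp.qact h.maxAb.normal hS.normal (g : G) _ = _
      rw [IsSymp.qact_fix, commutatorElement_eq_one_iff_mul_comm.mpr]
      · exact one_mem A
      · obtain ⟨k, hk⟩ := Subgroup.mem_zpowers_iff.mp g.2
        rw [← hk]
        exact (Commute.zpow_left hu k).eq
  have hcardF : Nat.card (MulAction.fixedPoints P (M ⧸ A.subgroupOf M)) =
      (A.subgroupOf M).relIndex F := by
    rw [Subgroup.relIndex, Subgroup.index_eq_card]
    symm
    refine Nat.card_congr (Equiv.ofBijective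
      (fun c => Quotient.liftOn' c
        (fun u : F => (⟨QuotientGroup.mk (u : M), (hfixed u).mpr u.2⟩ :
          MulAction.fixedPoints P (M ⧸ A.subgroupOf M)))
        fun a b hab => Subtype.ext (QuotientGroup.eq.mpr (Subgroup.mem_subgroupOf.mp (QuotientGroup.leftRel_apply.mp hab))))
      ⟨fun a b hab => ?_, fun ⟨c, hc⟩ => ?_⟩)
    · revert hab
      refine QuotientGroup.induction_on a fun a => ?_
      refine QuotientGroup.induction_on b fun b => ?_
      intro hab
      exact QuotientGroup.eq.mpr (Subgroup.mem_subgroupOf.mpr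
        (QuotientGroup.eq.mp (congrArg Subtype.val hab)))
    · revert hc
      refine QuotientGroup.induction_on c fun u hc => ?_
      exact ⟨QuotientGroup.mk ⟨u, (hfixed u).mp hc⟩, rfl⟩
  have hAF : A.subgroupOf M ≤ F := fun u hu =>
    (Subgroup.mem_centralizer_iff.mp x.2 _ (Subgroup.mem_subgroupOf.mp hu)).symm
  have hdvd := Subgroup.relIndex_mul_index hAF
  rw [hidx9] at hdvd
  rw [hcardF] at hmod
  have hmem : (A.subgroupOf M).relIndex F ∈ ({1, 3, 9} : Finset ℕ) := by
    have h1 : (A.subgroupOf M).relIndex F ∣ 9 := ⟨_, hdvd.symm⟩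
    have h2 : (A.subgroupOf M).relIndex F ∈ Nat.divisors 9 := Nat.mem_divisors.mpr ⟨h1, by norm_num⟩
    exact h2
  have hF1 : F.index = 1 := by
    simp only [Finset.mem_insert, Finset.mem_singleton] at hmem
    rcases hmem with h1 | h1 | h1
    · rw [h1] at hmod; exact absurd hmod (by decide)
    · rw [h1] at hmod; exact absurd hmod (by decide)
    · rw [h1] at hdvd; omega
  rw [Subgroup.index_eq_one] at hF1
  have hxA : (x : G) ∈ A := h.eq_mem (heq (by rw [hn, hsm3, hdeq]) x x.2 fun u hu => by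
    have : (⟨u, hu⟩ : M) ∈ F := hF1 ▸ Subgroup.mem_top _
    exact this)
  exact h7A (hx7 ▸ Subgroup.orderOf_dvd_natCard A hxA)

/-- The case of dimension at least three. -/
theorem Setup.dim_large (h : Setup ρ A) (hS : IsSymp A M s)
    (hlt : Module.finrank (ZMod q) (envAlg ρ A) < Module.finrank (ZMod q) V)
    (hn : 3 ≤ Module.finrank (ZMod q) V) (h6 : ¬ (q = 2 ∧ Module.finrank (ZMod q) V = 6)) :
    q = 3 ∧ Module.finrank (ZMod q) V = 4 ∧ (A.subgroupOf M).index = 16 := by
  classical
  haveI := h.maxAb.normal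
  haveI := hS.normal
  letI := h.field
  obtain ⟨m, hm, hidx, hle, -⟩ := h.symp_bound hS
  set n := Module.finrank (ZMod q) V
  set d := Module.finrank (ZMod q) (envAlg ρ A)
  have hd : 0 < d := h.finrank_pos
  have hq : q.Prime := Fact.out
  have hnG := card_nonzero_dvd (ρ := ρ) h.trans
  -- what every primitive prime satisfies
  have key : ∀ r : ℕ, r.Prime → r ∣ q ^ n - 1 →
      (∀ k : ℕ, 0 < k → k < n → ¬ r ∣ q ^ k - 1) →
      d = 1 ∧ s = 2 ∧ s ^ m = n ∧ r = n + 1 ∧ ¬ r ^ 2 ∣ Nat.card G := by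
    intro r hr hrd hprim
    haveI := Fact.mk hr
    have hrq : r ≠ q := by
      rintro rfl
      have h1 : r ∣ r ^ n := dvd_pow_self r (by omega)
      have h2 := Nat.dvd_sub h1 hrd
      rw [Nat.sub_sub_self (Nat.one_le_pow _ _ hr.pos)] at h2
      exact hr.not_dvd_one h2
    have hrA : ¬ r ∣ Nat.card A := fun h1 => hprim d hd hlt (h1.trans h.card_dvd)
    have hrn : n ≤ r - 1 := Nat.le_of_dvd (by have := hr.two_le; omega)
      (primitive_mod hq.one_lt (by omega) hr hrd hprim)
    have hPC : ∀ P : Subgroup G, IsPGroup r P → P ≤ Subgroup.centralizer (A : Set G) := by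
      intro P hP g hg
      by_contra hgC
      set π := QuotientGroup.mk' (Subgroup.centralizer (A : Set G))
      obtain ⟨j, hj⟩ := IsPGroup.iff_orderOf.mp hP ⟨g, hg⟩
      rw [← Subgroup.orderOf_coe] at hj
      have h1 : orderOf (π g) ∣ r ^ j := hj ▸ orderOf_map_dvd π g
      have h2 : orderOf (π g) ∣ (Subgroup.centralizer (A : Set G)).index := by
        rw [Subgroup.index_eq_card]; exact orderOf_dvd_natCard _
      have h3 : orderOf (π g) ≠ 1 := fun h4 =>
        hgC ((QuotientGroup.eq_one_iff g).mp (orderOf_eq_one_iff.mp h4))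
      obtain ⟨i, -, hi⟩ := (Nat.dvd_prime_pow hr).mp h1
      rcases Nat.eq_zero_or_pos i with rfl | hip
      · exact h3 (by simpa using hi)
      have h5 : r ∣ d := (hi ▸ dvd_pow_self r hip.ne').trans (h2.trans h.centralizer_index_dvd)
      have := Nat.le_of_dvd hd h5
      omega
    obtain ⟨x, hx⟩ := exists_prime_orderOf_dvd_card' r (hrd.trans hnG)
    have hPx : IsPGroup r (Subgroup.zpowers x) :=
      IsPGroup.of_card (n := 1) (by rw [Nat.card_zpowers, hx, pow_one])
    have h1 := h.semiregular_dvd hS hr hrq hprim hrA _ hPx (hPC _ hPx)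
    rw [Nat.card_zpowers, hx, hidx] at h1
    have hsm1 : 1 ≤ s ^ m := Nat.one_le_pow _ _ hS.prime.pos
    have hrle : r ≤ s ^ m + 1 := by
      have h2 : s ^ (2 * m) - 1 = (s ^ m - 1) * (s ^ m + 1) := by
        rw [mul_comm 2 m, pow_mul, mul_comm, ← Nat.sq_sub_sq, one_pow]
      rw [h2] at h1
      have hsm2 : 2 ≤ s ^ m := hS.prime.two_le.trans (Nat.le_self_pow hm.ne' s)
      rcases hr.dvd_mul.mp h1 with h3 | h3
      · have := Nat.le_of_dvd (by omega) h3
        omega
      · exact Nat.le_of_dvd (by omega) h3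
    have hd1 : d = 1 := by
      by_contra hne
      have : s ^ m * 2 ≤ s ^ m * d := Nat.mul_le_mul_left _ (by omega)
      have h2 : s ^ m ≤ n := by omega
      omega
    rw [hd1, mul_one] at hle
    have hsn : s ^ m = n := by omega
    have hr1 : r = n + 1 := by omega
    have hs : s = 2 := by
      rcases hS.prime.eq_two_or_odd' with h2 | h2
      · exact h2
      · exfalso
        have h3 : Even r := by
          rw [hr1, ← hsn]
          exact (h2.pow).add_odd odd_one
        have := (Nat.Prime.even_iff hr).mp h3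
        omega
    refine ⟨hd1, hs, hsn, hr1, fun hsq => ?_⟩
    obtain ⟨P, hP⟩ := Sylow.exists_subgroup_card_pow_prime r hsq
    have hPp : IsPGroup r P := IsPGroup.of_card hP
    have h3 := h.semiregular_dvd hS hr hrq hprim hrA P hPp (hPC P hPp)
    rw [hP, hidx, mul_comm 2 m, pow_mul, hsn, hr1] at h3
    have h4 : n ^ 2 - 1 < (n + 1) ^ 2 := by
      have : n ^ 2 < (n + 1) ^ 2 := Nat.pow_lt_pow_left (by omega) (by norm_num)
      omega
    have h5 : 0 < n ^ 2 - 1 := by
      have : 3 ^ 2 ≤ n ^ 2 := Nat.pow_le_pow_left hn 2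
      omega
    exact absurd (Nat.le_of_dvd h5 h3) (not_le.mpr h4)
  obtain ⟨r, hr, hrd, hprim⟩ := Cfsg.Agent.S2904.zsig hq.one_lt (show 2 < n by omega) h6
  obtain ⟨hd1, hs, hsn, hr1, hr2⟩ := key r hr hrd hprim
  obtain ⟨m', rfl⟩ : ∃ m', m = m' + 1 := ⟨m - 1, by omega⟩
  subst hs
  set k := 2 ^ m' with hk
  have hn2 : n = k + k := by rw [← hsn, pow_succ, mul_two]
  have hqodd : Odd q := hq.odd_of_ne_two (h.s_ne hS hd).symm
  have hk2 : 2 ≤ k := by
    by_contra hc
    omega
  set N := q ^ k + 1 with hN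
  have hNdvd : N ∣ q ^ n - 1 := by
    refine ⟨q ^ k - 1, ?_⟩
    have h1 : q ^ n = (q ^ k) ^ 2 := by rw [hn2, pow_two, pow_add]
    rw [h1, hN, ← Nat.sq_sub_sq, one_pow]
  have hN4 : ¬ 4 ∣ N := by
    intro h4
    have hm' : 0 < m' := by
      rcases Nat.eq_zero_or_pos m' with rfl | h' <;> omega
    obtain ⟨j, hj⟩ : Even k := hk ▸ (Nat.even_pow.mpr ⟨even_two, by omega⟩)
    obtain ⟨i, hi⟩ := hqodd.pow (n := j)
    have h5 : q ^ k = 4 * (i * i + i) + 1 := by
      rw [hj, pow_add, hi]; ring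
    omega
  have hodd_prime : ∀ p : ℕ, p.Prime → p ∣ N → p ≠ 2 → p = r := by
    intro p hp hpN hp2
    have hpd := hpN.trans hNdvd
    have hprim' : ∀ j : ℕ, 0 < j → j < n → ¬ p ∣ q ^ j - 1 := by
      intro j hj0 hjn hpj
      have hg := Nat.dvd_gcd hpd hpj
      rw [Nat.pow_sub_one_gcd_pow_sub_one] at hg
      have hgn : Nat.gcd n j ∣ 2 ^ (m' + 1) := hsn.symm ▸ Nat.gcd_dvd_left n j
      obtain ⟨i, hi, hgi⟩ := (Nat.dvd_prime_pow Nat.prime_two).mp hgn
      have hlt' : Nat.gcd n j < n := lt_of_le_of_lt (Nat.gcd_le_right _ hj0) hjn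
      have him : i ≤ m' := by
        by_contra hc
        have : i = m' + 1 := by omega
        rw [this, hsn] at hgi
        omega
      have hdk : Nat.gcd n j ∣ k := by rw [hgi]; exact pow_dvd_pow 2 him
      have h2 : p ∣ q ^ k - 1 := hg.trans (Nat.pow_sub_one_dvd_pow_sub_one q hdk)
      have h3 := Nat.dvd_sub hpN h2
      rw [hN, show q ^ k + 1 - (q ^ k - 1) = 2 by
        have : 1 ≤ q ^ k := Nat.one_le_pow _ _ hq.pos
        omega] at h3
      exact hp2 ((Nat.prime_dvd_prime_iff_eq hp Nat.prime_two).mp h3)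
    obtain ⟨-, -, -, hp1, -⟩ := key p hp hpd hprim'
    omega
  -- `N = 2 * r`
  have hN2 : 2 ∣ N := by
    have h1 : Odd (q ^ k) := hqodd.pow
    obtain ⟨i, hi⟩ := h1
    exact ⟨i + 1, by rw [hN, hi]; ring⟩
  obtain ⟨N', hN'⟩ := hN2
  have hN'1 : 1 < N' := by
    have h1 : 3 ^ 1 ≤ q ^ k := by
      refine le_trans (Nat.pow_le_pow_left ?_ 1) (Nat.pow_le_pow_right hq.pos (by omega))
      rcases hqodd with ⟨i, hi⟩
      have := hq.two_le
      omega
    omega
  have hN'r : ∀ p : ℕ, p.Prime → p ∣ N' → p = r := fun p hp hpN' => by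
    refine hodd_prime p hp (hpN'.trans ⟨2, by rw [hN']; ring⟩) ?_
    rintro rfl
    exact hN4 (by rw [hN']; exact Nat.mul_dvd_mul_left 2 hpN')
  obtain ⟨e, he⟩ : ∃ e, N' = r ^ e :=
    ⟨_, Nat.eq_prime_pow_of_unique_prime_dvd (by omega) fun {p} hp hd => hN'r p hp hd⟩
  have he1 : e ≤ 1 := by
    by_contra hc
    refine hr2 ((pow_dvd_pow r (show 2 ≤ e by omega)).trans ?_)
    exact (dvd_trans ⟨2, by rw [hN', he]; ring⟩ hNdvd).trans hnG
  have hN'eq : N' = r := by
    interval_cases e
    · simp at he; omega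
    · simpa using he
  have hqk : q ^ k = 4 * k + 1 := by
    have : N = 2 * r := by rw [hN', hN'eq]
    omega
  have hq3 : 3 ≤ q := by
    rcases hqodd with ⟨i, hi⟩
    have := hq.two_le
    omega
  have hkle : k ≤ 2 := by
    by_contra hc
    have h1 : 3 ^ k ≤ q ^ k := Nat.pow_le_pow_left hq3 k
    have h2 : ∀ j : ℕ, 3 ≤ j → 4 * j + 1 < 3 ^ j := by
      intro j hj
      induction j, hj using Nat.le_induction with
      | base => norm_num
      | succ j hj ih => rw [pow_succ]; omega
    have := h2 k (by omega)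
    omega
  have hk2' : k = 2 := by omega
  rw [hk2'] at hqk hn2
  have hq9 : q = 3 := by
    have h1 : q ^ 2 = 3 ^ 2 := by rw [hqk] <;> norm_num
    exact Nat.pow_left_injective (by norm_num) h1
  refine ⟨hq9, by omega, ?_⟩
  rw [hidx, two_mul, pow_add, hsn, show n = 4 by omega] <;> norm_num

/-- **Huppert.** A solvable linear group transitive on nonzero vectors is one-dimensional over the
field of a normal abelian subgroup, or one of the exceptions. -/
theorem Setup.dichotomy (h : Setup ρ A) (hsol : Group.IsSolvable G) :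
    Module.finrank (ZMod q) (envAlg ρ A) = Module.finrank (ZMod q) V ∨
      ∃ M s, IsSymp A M s ∧
        ((Module.finrank (ZMod q) V = 2 ∧ q + 1 ∣ 24 ∧ (A.subgroupOf M).index = 4 ∧
            Nat.card G ∣ 24 * Nat.card A ∧ Nat.card A ∣ q - 1) ∨
          (q = 3 ∧ Module.finrank (ZMod q) V = 4 ∧ (A.subgroupOf M).index = 16)) := by
  haveI : FiniteDimensional (ZMod q) V := Module.Finite.of_finite
  set n := Module.finrank (ZMod q) V
  set d := Module.finrank (ZMod q) (envAlg ρ A)
  have hn0 : 0 < n := Module.finrank_pos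
  have hdn : d ≤ n := Nat.le_of_dvd hn0 h.finrank_dvd
  rcases lt_or_eq_of_le hdn with hlt | heq
  swap
  · exact Or.inl heq
  right
  obtain ⟨M, s, hS⟩ := h.maxAb.exists_symp hsol (h.not_centralizer_le hlt)
  refine ⟨M, s, hS, ?_⟩
  have hd := h.finrank_pos
  rcases Nat.lt_or_ge n 3 with hn | hn
  · have hn2 : n = 2 := by omega
    obtain ⟨-, hd1, h4, hdvd⟩ := h.dim_two hS hn2
    have hA : Nat.card A ∣ q - 1 := by
      have := h.card_dvd
      change _ ∣ q ^ d - 1 at this
      rwa [show d = 1 from hd1, pow_one] at this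
    refine Or.inl ⟨hn2, ?_, h4, hdvd, hA⟩
    have h1 := (card_nonzero_dvd (ρ := ρ) h.trans).trans (hdvd.trans (Nat.mul_dvd_mul_left 24 hA))
    change q ^ n - 1 ∣ _ at h1
    have hq := (Fact.out : q.Prime).two_le
    rw [hn2, show q ^ 2 - 1 = (q + 1) * (q - 1) by rw [← Nat.sq_sub_sq, one_pow]] at h1
    exact Nat.dvd_of_mul_dvd_mul_right (show 0 < q - 1 by omega) h1
  · by_cases h6 : q = 2 ∧ n = 6
    · exact absurd (h.not_two_six hS h6.1 h6.2) id
    · exact Or.inr (h.dim_large hS hlt hn h6)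

/-- The semilinear identification in the one-dimensional case. -/
theorem Setup.semilinear (h : Setup ρ A)
    (heq : Module.finrank (ZMod q) (envAlg ρ A) = Module.finrank (ZMod q) V) :
    ∃ (F : Type) (_ : Field F) (_ : Fintype F) (e : V ≃+ F),
      ∀ g : G, ∃ (a : F) (σ : F ≃+* F), ∀ v : V, e (ρ g v) = a * σ (e v) := by
  classical
  haveI := h.maxAb.normal
  haveI : Finite (Module.End (ZMod q) V) := Finite.of_injective _ DFunLike.coe_injective
  letI := h.field
  haveI : Fintype (envAlg ρ A) := Fintype.ofFinite _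
  haveI : FiniteDimensional (ZMod q) (envAlg ρ A) := Module.Finite.of_finite
  haveI : FiniteDimensional (ZMod q) V := Module.Finite.of_finite
  set d := Module.finrank (ZMod q) (envAlg ρ A)
  haveI : NeZero d := ⟨h.finrank_pos.ne'⟩
  let F := GaloisField q d
  haveI : Fintype F := Fintype.ofFinite _
  let t : envAlg ρ A ≃+* F := FiniteField.ringEquivOfCardEq (by
    rw [← Nat.card_eq_fintype_card, ← Nat.card_eq_fintype_card,
      GaloisField.card q d h.finrank_pos.ne', Module.natCard_eq_pow_finrank (K := ZMod q),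
      Nat.card_zmod])
  obtain ⟨v₀, hv₀⟩ := exists_ne (0 : V)
  let L : envAlg ρ A →ₗ[ZMod q] V :=
    { toFun := fun a => (a : Module.End (ZMod q) V) v₀
      map_add' := fun a b => rfl
      map_smul' := fun c a => rfl }
  have hinj : Function.Injective L := by
    intro a b hab
    by_contra hne
    exact h.smul_ne_zero' (a - b).2 (fun h0 => hne (sub_eq_zero.mp (Subtype.ext h0))) hv₀
      (sub_eq_zero.mpr hab)
  let eL : envAlg ρ A ≃ₗ[ZMod q] V := LinearEquiv.ofBijective L
    ⟨hinj, (LinearMap.injective_iff_surjective_of_finrank_eq_finrank heq).mp hinj⟩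
  refine ⟨F, inferInstance, inferInstance, eL.symm.toAddEquiv.trans t.toAddEquiv, fun g => ?_⟩
  let σ₀ : envAlg ρ A ≃+* envAlg ρ A :=
    { toFun := fun a => ⟨conjEnd ρ g a, conjEnd_mem ρ g a.2⟩
      invFun := fun a => ⟨conjEnd ρ g⁻¹ a, conjEnd_mem ρ g⁻¹ a.2⟩
      left_inv := fun a => Subtype.ext (by
        show conjEnd ρ g⁻¹ (conjEnd ρ g a) = a
        rw [← conjEnd_mul_apply, inv_mul_cancel, conjEnd_apply, inv_one, map_one, one_mul, mul_one])
      right_inv := fun a => Subtype.ext (by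
        show conjEnd ρ g (conjEnd ρ g⁻¹ a) = a
        rw [← conjEnd_mul_apply, mul_inv_cancel, conjEnd_apply, inv_one, map_one, one_mul, mul_one])
      map_mul' := fun a b => Subtype.ext (map_mul _ _ _)
      map_add' := fun a b => Subtype.ext (map_add _ _ _) }
  refine ⟨t (eL.symm (ρ g v₀)), t.symm.trans (σ₀.trans t), fun v => ?_⟩
  show t (eL.symm (ρ g v)) = t (eL.symm (ρ g v₀)) * t (σ₀ (t.symm (t (eL.symm v))))
  rw [RingEquiv.symm_apply_apply, ← map_mul]
  congr 1
  apply eL.injective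
  rw [LinearEquiv.apply_symm_apply, mul_comm]
  show ρ g v = conjEnd ρ g (eL.symm v : Module.End (ZMod q) V)
    ((eL.symm (ρ g v₀) : Module.End (ZMod q) V) v₀)
  have h1 : ((eL.symm (ρ g v₀) : Module.End (ZMod q) V) v₀) = ρ g v₀ := eL.apply_symm_apply _
  have h2 : ((eL.symm v : Module.End (ZMod q) V) v₀) = v := eL.apply_symm_apply _
  rw [h1, conjEnd_apply, Module.End.mul_apply, Module.End.mul_apply, toEnd_apply, toEnd_apply,
    ← LinearEquiv.mul_apply (ρ g⁻¹), ← map_mul, inv_mul_cancel, map_one]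
  show ρ g v = ρ g ((eL.symm v : Module.End (ZMod q) V) v₀)
  rw [h2]

end

end Cfsg.Agent.Lib.SolvTransLinear
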