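import Mathlib

/-!
# Solvable linear groups transitive on nonzero vectors: the field of a normal abelian subgroup
-/

set_option autoImplicit false
set_option linter.unusedSectionVars false
set_option linter.unusedVariables false
set_option linter.style.haveILetI false

namespace Cfsg.Agent.Lib.SolvTransLinear

universe u v

variable {q : ℕ} [Fact q.Prime] {V : Type u} [AddCommGroup V] [Module (ZMod q) V]
variable {G : Type v} [Group G]

/-- The endomorphisms of a representation by linear equivalences. -/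
def toEnd (ρ : G →* (V ≃ₗ[ZMod q] V)) : G →* Module.End (ZMod q) V where
  toFun g := (ρ g).toLinearMap
  map_one' := by rw [map_one]; rfl
  map_mul' a b := by rw [map_mul]; rfl

variable (ρ : G →* (V ≃ₗ[ZMod q] V))

@[simp] theorem toEnd_apply (g : G) (v : V) : toEnd ρ g v = ρ g v := rfl

theorem toEnd_injective (hρ : Function.Injective ρ) : Function.Injective (toEnd ρ) :=
  fun a b h => hρ (LinearEquiv.ext fun v => congrFun (congrArg DFunLike.coe h) v)

theorem toEnd_inv_cancel (g : G) : toEnd ρ g⁻¹ * toEnd ρ g = 1 := by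
  rw [← map_mul, inv_mul_cancel, map_one]

theorem toEnd_cancel_inv (g : G) : toEnd ρ g * toEnd ρ g⁻¹ = 1 := by
  rw [← map_mul, mul_inv_cancel, map_one]

/-- Conjugation by a group element on the endomorphism algebra. -/
def conjEnd (g : G) : Module.End (ZMod q) V →ₐ[ZMod q] Module.End (ZMod q) V where
  toFun a := toEnd ρ g * a * toEnd ρ g⁻¹
  map_one' := by rw [mul_one, toEnd_cancel_inv]
  map_mul' a b := by
    rw [mul_assoc (toEnd ρ g * a), ← mul_assoc (toEnd ρ g⁻¹), ← mul_assoc (toEnd ρ g⁻¹),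
      toEnd_inv_cancel, one_mul]
    simp only [mul_assoc]
  map_zero' := by rw [mul_zero, zero_mul]
  map_add' a b := by rw [mul_add, add_mul]
  commutes' c := by
    rw [← Algebra.commutes c (toEnd ρ g), mul_assoc, toEnd_cancel_inv, mul_one]

theorem conjEnd_apply (g : G) (a : Module.End (ZMod q) V) :
    conjEnd ρ g a = toEnd ρ g * a * toEnd ρ g⁻¹ := rfl

theorem conjEnd_toEnd (g a : G) : conjEnd ρ g (toEnd ρ a) = toEnd ρ (g * a * g⁻¹) := by
  rw [conjEnd_apply, map_mul, map_mul]

theorem conjEnd_mul_apply (g h : G) (a : Module.End (ZMod q) V) :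
    conjEnd ρ (g * h) a = conjEnd ρ g (conjEnd ρ h a) := by
  rw [conjEnd_apply, conjEnd_apply, conjEnd_apply, mul_inv_rev, map_mul, map_mul]
  simp only [mul_assoc]

/-- The subalgebra spanned by a subgroup. -/
def envAlg (A : Subgroup G) : Subalgebra (ZMod q) (Module.End (ZMod q) V) :=
  Algebra.adjoin (ZMod q) (toEnd ρ '' (A : Set G))

theorem toEnd_mem_envAlg {A : Subgroup G} {a : G} (ha : a ∈ A) : toEnd ρ a ∈ envAlg ρ A :=
  Algebra.subset_adjoin ⟨a, ha, rfl⟩

theorem conjEnd_mem {A : Subgroup G} [hA : A.Normal] (g : G) {x : Module.End (ZMod q) V}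
    (hx : x ∈ envAlg ρ A) : conjEnd ρ g x ∈ envAlg ρ A := by
  have h : (envAlg ρ A).map (conjEnd ρ g) ≤ envAlg ρ A := by
    rw [envAlg, AlgHom.map_adjoin]
    refine Algebra.adjoin_mono ?_
    rintro _ ⟨_, ⟨a, ha, rfl⟩, rfl⟩
    exact ⟨g * a * g⁻¹, hA.conj_mem a ha g, (conjEnd_toEnd ρ g a).symm⟩
  exact h ⟨x, hx, rfl⟩

theorem envAlg_comm {A : Subgroup G} (hc : ∀ a ∈ A, ∀ b ∈ A, a * b = b * a) :
    ∀ x ∈ envAlg ρ A, ∀ y ∈ envAlg ρ A, x * y = y * x := by
  have hle : envAlg ρ A ≤ Subalgebra.centralizer (ZMod q) (toEnd ρ '' (A : Set G)) :=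
    Algebra.adjoin_le (by
      rintro _ ⟨a, ha, rfl⟩
      rw [SetLike.mem_coe, Subalgebra.mem_centralizer_iff]
      rintro _ ⟨b, hb, rfl⟩
      rw [← map_mul, ← map_mul, hc b hb a ha])
  intro x hx y hy
  have h2 : envAlg ρ A ≤ Subalgebra.centralizer (ZMod q) ({x} : Set (Module.End (ZMod q) V)) :=
    Algebra.adjoin_le (by
      intro z hz
      rw [SetLike.mem_coe, Subalgebra.mem_centralizer_iff]
      rintro _ rfl
      exact ((Subalgebra.mem_centralizer_iff _).mp (hle hx) z hz).symm)
  exact (Subalgebra.mem_centralizer_iff _).mp (h2 hy) x rfl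

/-- An element commuting with the subgroup commutes with its algebra. -/
theorem commute_envAlg {A : Subgroup G} {f : Module.End (ZMod q) V}
    (hf : ∀ a ∈ A, toEnd ρ a * f = f * toEnd ρ a) {x : Module.End (ZMod q) V}
    (hx : x ∈ envAlg ρ A) : x * f = f * x := by
  have h2 : envAlg ρ A ≤ Subalgebra.centralizer (ZMod q) ({f} : Set (Module.End (ZMod q) V)) :=
    Algebra.adjoin_le (by
      rintro _ ⟨a, ha, rfl⟩
      rw [SetLike.mem_coe, Subalgebra.mem_centralizer_iff]
      rintro _ rfl
      exact (hf a ha).symm)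
  exact ((Subalgebra.mem_centralizer_iff _).mp (h2 hx) f rfl).symm

/-- Transitivity makes the algebra of a normal abelian subgroup a domain. -/
theorem injective_of_ne_zero [Finite V] (htrans : ∀ v w : V, v ≠ 0 → w ≠ 0 → ∃ g : G, ρ g v = w)
    {A : Subgroup G} [A.Normal] (hc : ∀ a ∈ A, ∀ b ∈ A, a * b = b * a)
    {a : Module.End (ZMod q) V} (ha : a ∈ envAlg ρ A) (ha0 : a ≠ 0) {v : V} (hv : v ≠ 0) :
    a v ≠ 0 := by
  classical
  intro hav
  set R := envAlg ρ A
  haveI : Finite (Module.End (ZMod q) V) := Finite.of_injective _ DFunLike.coe_injective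
  -- no nonzero nilpotents
  have hnil : ∀ x ∈ R, x * x = 0 → x = 0 := by
    intro x hx hxx
    -- the common kernel of the square-zero elements is invariant
    by_contra hx0
    obtain ⟨u, hu⟩ : ∃ u, x u ≠ 0 := by
      by_contra h
      push Not at h
      exact hx0 (LinearMap.ext h)
    let S : Finset (Module.End (ZMod q) V) :=
      (Set.toFinite {y : Module.End (ZMod q) V | y ∈ R ∧ IsNilpotent y}).toFinset
    have hmemS : ∀ y, y ∈ S ↔ y ∈ R ∧ IsNilpotent y := fun y => by simp [S]
    -- a nonzero vector killed by all of them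
    have key : ∀ T : Finset (Module.End (ZMod q) V), T ⊆ S →
        ∃ w : V, w ≠ 0 ∧ ∀ y ∈ T, y w = 0 := by
      intro T
      induction T using Finset.induction_on with
      | empty => exact fun _ => ⟨v, hv, fun y hy => absurd hy (by simp)⟩
      | @insert y T hyT ih =>
        intro hsub
        obtain ⟨w, hw, hwT⟩ := ih (fun z hz => hsub (Finset.mem_insert_of_mem hz))
        obtain ⟨hyR, k, hk⟩ := (hmemS y).mp (hsub (Finset.mem_insert_self y T))
        have hex : ∃ j, (y ^ j) w = 0 := ⟨k, by rw [hk]; rfl⟩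
        have h0 : Nat.find hex ≠ 0 := fun h => by
          have := Nat.find_spec hex
          rw [h, pow_zero] at this
          exact hw this
        obtain ⟨j, hj⟩ := Nat.exists_eq_succ_of_ne_zero h0
        refine ⟨(y ^ j) w, Nat.find_min hex (by omega), fun z hz => ?_⟩
        rcases Finset.mem_insert.mp hz with rfl | hz'
        · have := Nat.find_spec hex
          rw [hj, pow_succ'] at this
          exact this
        · have hzR := ((hmemS z).mp (hsub hz)).1
          rw [← Module.End.mul_apply, envAlg_comm ρ hc z hzR _ (pow_mem hyR j),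
            Module.End.mul_apply, hwT z hz', map_zero]
    obtain ⟨w, hw, hwS⟩ := key S (subset_refl _)
    obtain ⟨g, hg⟩ := htrans w u hw (fun h => hu (by rw [h, map_zero]))
    have h1 : (conjEnd ρ g⁻¹ x) w = 0 := hwS _ ((hmemS _).mpr
      ⟨conjEnd_mem ρ _ hx, IsNilpotent.map (⟨2, by rw [pow_two, hxx]⟩ : IsNilpotent x) (conjEnd ρ g⁻¹)⟩)
    rw [conjEnd_apply, inv_inv, Module.End.mul_apply, Module.End.mul_apply, toEnd_apply,
      toEnd_apply, hg] at h1
    exact hu ((ρ g⁻¹).map_eq_zero_iff.mp h1)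
  have hnil' : ∀ (k : ℕ) (x : Module.End (ZMod q) V), x ∈ R → x ^ k = 0 → x = 0 := by
    intro k
    induction k with
    | zero =>
      intro x _ h
      rw [pow_zero] at h
      calc x = x * 1 := (mul_one x).symm
        _ = 0 := by rw [h, mul_zero]
    | succ k ih =>
      intro x hx h
      rcases Nat.eq_zero_or_pos k with rfl | hk
      · simpa using h
      · exact ih x hx (hnil _ (pow_mem hx k) (by
          rw [← pow_add, show k + k = (k + 1) + (k - 1) by omega, pow_add, h, zero_mul]))
  -- an idempotent power of `a`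
  obtain ⟨i, j, hij, hpow⟩ := Finite.exists_ne_map_eq_of_infinite (fun k : ℕ => a ^ k)
  wlog hlt : i < j generalizing i j
  · exact this j i hij.symm hpow.symm (by omega)
  obtain ⟨d, rfl⟩ := Nat.exists_eq_add_of_le hlt.le
  have hper : ∀ k l : ℕ, i ≤ k → a ^ (k + l * d) = a ^ k := by
    intro k l hk
    induction l with
    | zero => simp
    | succ l ih =>
      rw [show k + (l + 1) * d = (k - i + l * d) + (i + d) by rw [add_mul]; omega, pow_add,
        ← show a ^ i = a ^ (i + d) from hpow, ← pow_add,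
        show k - i + l * d + i = k + l * d by omega, ih]
  have hd : 0 < d := by omega
  set e := a ^ ((i + 1) * d) with he
  have hie : i ≤ (i + 1) * d := le_trans (Nat.le_succ i) (Nat.le_mul_of_pos_right _ hd)
  have hee : e * e = e := by rw [he, ← pow_add, hper _ (i + 1) hie]
  have heR : e ∈ R := pow_mem ha _
  have he0 : e ≠ 0 := fun h => ha0 (hnil' _ a ha h)
  have hev : e v = 0 := by
    rw [he, show (i + 1) * d = ((i + 1) * d - 1) + 1 by
      have : 0 < (i + 1) * d := Nat.mul_pos (by omega) hd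
      omega, pow_succ, Module.End.mul_apply, hav, map_zero]
  obtain ⟨u, hu⟩ : ∃ u, e u ≠ 0 := by
    by_contra h
    push Not at h
    exact he0 (LinearMap.ext h)
  set w := e u with hw
  have hew : e w = w := by rw [hw, ← Module.End.mul_apply, hee]
  -- count the idempotents killing a vector
  let I : V → Finset (Module.End (ZMod q) V) := fun x =>
    (Set.toFinite {f : Module.End (ZMod q) V | f ∈ R ∧ f * f = f ∧ f x = 0}).toFinset
  have hmem : ∀ x f, f ∈ I x ↔ f ∈ R ∧ f * f = f ∧ f x = 0 := fun x f => by simp [I]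
  have hle : ∀ x y : V, x ≠ 0 → y ≠ 0 → (I x).card ≤ (I y).card := by
    intro x y hx hy
    obtain ⟨g, hg⟩ := htrans x y hx hy
    refine Finset.card_le_card_of_injOn (conjEnd ρ g) (fun f hf => ?_) (fun f _ f' _ h => ?_)
    · obtain ⟨hfR, hff, hfx⟩ := (hmem x f).mp hf
      refine (hmem y _).mpr ⟨conjEnd_mem ρ g hfR, by rw [← map_mul, hff], ?_⟩
      rw [conjEnd_apply, Module.End.mul_apply, Module.End.mul_apply, ← hg, toEnd_apply,
        toEnd_apply, ← LinearEquiv.mul_apply, ← map_mul, inv_mul_cancel, map_one]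
      show ρ g (f x) = 0
      rw [hfx, map_zero]
    · have := congrArg (fun z => toEnd ρ g⁻¹ * z * toEnd ρ g) h
      simpa [conjEnd_apply, mul_assoc, ← mul_assoc (toEnd ρ g⁻¹) (toEnd ρ g), toEnd_inv_cancel]
        using this
  have hvw : v + w ≠ 0 := fun h => hu (by
    have h2 := congrArg e h
    rwa [map_add, hev, zero_add, map_zero, hew] at h2)
  have hss : I (v + w) ⊂ I v := by
    refine Finset.ssubset_iff_subset_ne.mpr ⟨fun f hf => ?_, fun h => ?_⟩
    · obtain ⟨hfR, hff, hfx⟩ := (hmem _ f).mp hf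
      refine (hmem v f).mpr ⟨hfR, hff, ?_⟩
      have h2 := congrArg e hfx
      rw [map_add, map_add, map_zero, ← Module.End.mul_apply e f v, ← Module.End.mul_apply e f w,
        envAlg_comm ρ hc e heR f hfR, Module.End.mul_apply, Module.End.mul_apply, hev, map_zero,
        zero_add, hew] at h2
      rwa [map_add, h2, add_zero] at hfx
    · have h3 := (hmem _ e).mp (h ▸ (hmem v e).mpr ⟨heR, hee, hev⟩)
      rw [map_add, hev, zero_add, hew] at h3
      exact hu h3.2.2
  exact absurd (Finset.card_lt_card hss) (not_lt.mpr (hle v (v + w) hv hvw))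

/-- An element of prime order `r`, primitive for `q ^ n - 1`, acts irreducibly. -/
theorem commute_of_commute_primitive [Finite V] [Finite G] (hρ : Function.Injective ρ) [Nontrivial V]
    {r : ℕ} [hr : Fact r.Prime] (hrq : r ≠ q)
    (hprim : ∀ k : ℕ, 0 < k → k < Module.finrank (ZMod q) V → ¬ r ∣ q ^ k - 1)
    {x : G} (hx : orderOf x = r) {f g : Module.End (ZMod q) V}
    (hf : toEnd ρ x * f = f * toEnd ρ x) (hg : toEnd ρ x * g = g * toEnd ρ x) :
    f * g = g * f := by
  classical
  haveI : Finite (ZMod q) := inferInstance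
  haveI : FiniteDimensional (ZMod q) V := Module.Finite.of_finite
  set n := Module.finrank (ZMod q) V with hn
  have hcard : ∀ W : Submodule (ZMod q) V, Nat.card W = q ^ Module.finrank (ZMod q) W := fun W => by
    rw [Module.natCard_eq_pow_finrank (K := ZMod q), Nat.card_zmod]
  have hP : IsPGroup r (Subgroup.zpowers x) := IsPGroup.of_card (n := 1) (by
    rw [Nat.card_zpowers, hx, pow_one])
  -- the fixed space inside an invariant subspace
  let Fx : Submodule (ZMod q) V := LinearMap.ker (toEnd ρ x - 1)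
  have hFx : ∀ v, v ∈ Fx ↔ ρ x v = v := fun v => by
    simp [Fx, LinearMap.sub_apply, sub_eq_zero]
  have hcong : ∀ W : Submodule (ZMod q) V, (∀ v ∈ W, ρ x v ∈ W) →
      q ^ Module.finrank (ZMod q) W ≡ q ^ Module.finrank (ZMod q) ↥(W ⊓ Fx) [MOD r] := by
    intro W hW
    have hzW : ∀ (h : G), h ∈ Subgroup.zpowers x → ∀ v ∈ W, ρ h v ∈ W := by
      intro h hh v hv
      obtain ⟨k, rfl⟩ : ∃ k : ℕ, x ^ k = h := by
        rwa [← mem_powers_iff_mem_zpowers, Submonoid.mem_powers_iff] at hh
      clear hh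
      induction k with
      | zero => simpa using hv
      | succ k ih => rw [pow_succ', map_mul]; exact hW _ ih
    letI : MulAction (Subgroup.zpowers x) W :=
      { smul := fun h v => ⟨ρ (h : G) v, hzW _ h.2 _ v.2⟩
        one_smul := fun v => Subtype.ext (by
          show ρ ((1 : Subgroup.zpowers x) : G) (v : V) = v
          rw [Subgroup.coe_one, map_one]; rfl)
        mul_smul := fun a b v => Subtype.ext (by
          show ρ ((a * b : Subgroup.zpowers x) : G) (v : V) = ρ (a : G) (ρ (b : G) v)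
          rw [Subgroup.coe_mul, map_mul]; rfl) }
    have h := hP.card_modEq_card_fixedPoints (α := W)
    rw [hcard] at h
    suffices hc : Nat.card (MulAction.fixedPoints (Subgroup.zpowers x) W) =
        q ^ Module.finrank (ZMod q) ↥(W ⊓ Fx) by rwa [hc] at h
    rw [← hcard]
    refine Nat.card_congr
      { toFun := fun v => ⟨v.1.1, v.1.2, (hFx _).mpr (congrArg Subtype.val
          (v.2 ⟨x, Subgroup.mem_zpowers x⟩))⟩
        invFun := fun v => ⟨⟨v.1, v.2.1⟩, fun h => Subtype.ext ?_⟩
        left_inv := fun v => rfl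
        right_inv := fun v => rfl }
    obtain ⟨k, hk⟩ : ∃ k : ℕ, x ^ k = (h : G) := by
      have := h.2
      rwa [← mem_powers_iff_mem_zpowers, Submonoid.mem_powers_iff] at this
    show ρ (h : G) v.1 = v.1
    rw [← hk]
    clear hk
    induction k with
    | zero => simp
    | succ k ih => rw [pow_succ', map_mul, LinearEquiv.mul_apply, ih]; exact (hFx _).mp v.2.2
  have hzero : ∀ W : Submodule (ZMod q) V, (∀ v ∈ W, ρ x v ∈ W) →
      Module.finrank (ZMod q) ↥(W ⊓ Fx) < Module.finrank (ZMod q) W →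
      Module.finrank (ZMod q) ↥(W ⊓ Fx) = 0 ∧ Module.finrank (ZMod q) W = n := by
    intro W hW hlt
    set f := Module.finrank (ZMod q) ↥(W ⊓ Fx)
    set w := Module.finrank (ZMod q) W
    have h2 : r ∣ q ^ w - q ^ f :=
      (Nat.modEq_iff_dvd' (Nat.pow_le_pow_right (Fact.out : q.Prime).pos hlt.le)).mp (hcong W hW).symm
    rw [show q ^ w - q ^ f = q ^ f * (q ^ (w - f) - 1) by
      rw [Nat.mul_sub, mul_one, ← pow_add, Nat.add_sub_cancel' hlt.le]] at h2
    have h3 : ¬ r ∣ q ^ f := fun h =>
      hrq ((Nat.prime_dvd_prime_iff_eq hr.out Fact.out).mp (hr.out.dvd_of_dvd_pow h))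
    have h4 : ¬ (w - f < n) := fun h =>
      hprim (w - f) (by omega) h ((hr.out.dvd_mul.mp h2).resolve_left h3)
    have h5 : w ≤ n := Submodule.finrank_le W
    omega
  have hFbot : Fx = ⊥ := by
    rw [← top_inf_eq Fx, ← Submodule.finrank_eq_zero (R := ZMod q)]
    refine (hzero ⊤ (fun _ _ => trivial) ?_).1
    refine lt_of_le_of_ne (Submodule.finrank_mono inf_le_left) fun h => ?_
    have h1 : ⊤ ⊓ Fx = ⊤ := Submodule.eq_of_le_of_finrank_eq inf_le_left h
    have : x = 1 := hρ (LinearEquiv.ext fun v => by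
      rw [map_one]
      exact (hFx v).mp ((h1.symm ▸ Submodule.mem_top : v ∈ ⊤ ⊓ Fx)).2)
    rw [this, orderOf_one] at hx
    exact hr.out.one_lt.ne hx
  have hirr : ∀ W : Submodule (ZMod q) V, (∀ v ∈ W, ρ x v ∈ W) → W ≠ ⊥ → W = ⊤ := by
    intro W hW hne
    refine Submodule.eq_top_of_finrank_eq (hzero W hW ?_).2
    rw [hFbot, inf_bot_eq, finrank_bot]
    exact Nat.pos_of_ne_zero fun h => hne (Submodule.finrank_eq_zero.mp h)
  -- an endomorphism commuting with `x` is determined by one value
  obtain ⟨v₀, hv₀⟩ := exists_ne (0 : V)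
  have hdet : ∀ k : Module.End (ZMod q) V, toEnd ρ x * k = k * toEnd ρ x → k v₀ = 0 → k = 0 := by
    intro k hk h0
    refine LinearMap.ker_eq_top.mp (hirr _ (fun v hv => ?_) fun h => ?_)
    · rw [LinearMap.mem_ker] at hv ⊢
      have := congrFun (congrArg DFunLike.coe hk.symm) v
      simp only [Module.End.mul_apply, toEnd_apply, hv, map_zero] at this
      exact this
    · have : v₀ ∈ LinearMap.ker k := h0
      rw [h, Submodule.mem_bot] at this
      exact hv₀ this
  -- the cyclic space of the powers of `x`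
  let P := Algebra.adjoin (ZMod q) ({toEnd ρ x} : Set (Module.End (ZMod q) V))
  let W : Submodule (ZMod q) V := (Subalgebra.toSubmodule P).map (LinearMap.applyₗ v₀)
  have hWtop : W = ⊤ := by
    refine hirr W ?_ fun h => ?_
    · rintro _ ⟨p, hp, rfl⟩
      exact ⟨toEnd ρ x * p, P.mul_mem (Algebra.subset_adjoin rfl) hp, rfl⟩
    · have : v₀ ∈ W := ⟨1, P.one_mem, rfl⟩
      rw [h, Submodule.mem_bot] at this
      exact hv₀ this
  have hP' : ∀ k : Module.End (ZMod q) V, toEnd ρ x * k = k * toEnd ρ x → ∀ p ∈ P, p * k = k * p := by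
    intro k hk p hp
    have h2 : P ≤ Subalgebra.centralizer (ZMod q) ({k} : Set (Module.End (ZMod q) V)) :=
      Algebra.adjoin_le (by
        rintro _ rfl
        rw [SetLike.mem_coe, Subalgebra.mem_centralizer_iff]
        rintro _ rfl
        exact hk.symm)
    exact ((Subalgebra.mem_centralizer_iff _).mp (h2 hp) k rfl).symm
  obtain ⟨p, hp, hpv⟩ : f v₀ ∈ W := hWtop ▸ Submodule.mem_top
  have hfp : f = p := by
    rw [← sub_eq_zero]
    refine hdet _ ?_ ?_
    · rw [mul_sub, sub_mul, hf, hP' (toEnd ρ x) rfl p hp]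
    · rw [LinearMap.sub_apply, sub_eq_zero]; exact hpv.symm
  rw [hfp]
  exact hP' g hg p hp

end Cfsg.Agent.Lib.SolvTransLinear
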