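import Cfsg.Agent.Lib.SolvTransLinear.Basic

/-!
# A nonabelian normal subgroup centralizing a maximal normal abelian subgroup
-/

set_option autoImplicit false
set_option linter.unusedSectionVars false
set_option linter.unusedVariables false
set_option linter.style.haveILetI false

namespace Cfsg.Agent.Lib.SolvTransLinear

open scoped commutatorElement

universe u v

/-- A maximal normal abelian subgroup. -/
structure IsMaxAb {G : Type v} [Group G] (A : Subgroup G) : Prop where
  normal : A.Normal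
  comm : ∀ a ∈ A, ∀ b ∈ A, a * b = b * a
  max : ∀ B : Subgroup G, B.Normal → (∀ a ∈ B, ∀ b ∈ B, a * b = b * a) → A ≤ B → B ≤ A

theorem exists_isMaxAb (G : Type v) [Group G] [Finite G] : ∃ A : Subgroup G, IsMaxAb A := by
  classical
  obtain ⟨A, hA, hAmax⟩ := Set.Finite.exists_maximalFor (fun B : Subgroup G => Nat.card B)
    {B : Subgroup G | B.Normal ∧ ∀ a ∈ B, ∀ b ∈ B, a * b = b * a} (Set.toFinite _)
    ⟨⊥, inferInstance, fun a ha b hb => by
      rw [Subgroup.mem_bot] at ha hb; rw [ha, hb]⟩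
  refine ⟨A, hA.1, hA.2, fun B hB hBc hle => ?_⟩
  exact (Subgroup.eq_of_le_of_card_ge hle (hAmax ⟨hB, hBc⟩ (Subgroup.card_le_of_le hle))).ge

/-- The data of a minimal normal subgroup of the centralizer of `A` outside `A`. -/
structure IsSymp {G : Type v} [Group G] (A M : Subgroup G) (s : ℕ) : Prop where
  prime : s.Prime
  normal : M.Normal
  le_centralizer : M ≤ Subgroup.centralizer (A : Set G)
  not_le : ¬ M ≤ A
  pow_mem : ∀ a ∈ M, a ^ s ∈ A
  comm_mem : ∀ a ∈ M, ∀ b ∈ M, ⁅a, b⁆ ∈ A
  center_le : ∀ a ∈ M, (∀ b ∈ M, a * b = b * a) → a ∈ A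

variable {G : Type v} [Group G]

theorem IsMaxAb.exists_symp [Finite G] {A : Subgroup G} (hA : IsMaxAb A)
    (hsol : Group.IsSolvable G) (hC : ¬ Subgroup.centralizer (A : Set G) ≤ A) :
    ∃ M s, IsSymp A M s := by
  classical
  haveI := hA.normal
  obtain ⟨M, hM, hMmin⟩ := Set.Finite.exists_minimalFor (fun B : Subgroup G => Nat.card B)
    {B : Subgroup G | B.Normal ∧ B ≤ Subgroup.centralizer (A : Set G) ∧ ¬ B ≤ A} (Set.toFinite _)
    ⟨_, inferInstance, le_rfl, hC⟩
  obtain ⟨hMn, hMC, hMA⟩ := hM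
  haveI := hMn
  have hmin : ∀ B : Subgroup G, B.Normal → B ≤ M → B ≠ M → B ≤ A := by
    intro B hB hle hne
    by_contra h
    exact hne (Subgroup.eq_of_le_of_card_ge hle
      (hMmin ⟨hB, hle.trans hMC, h⟩ (Subgroup.card_le_of_le hle)))
  have hMne : M ≠ ⊥ := fun h => hMA (h ▸ bot_le)
  have hcommle : ⁅M, M⁆ ≤ A := by
    refine hmin _ inferInstance (Subgroup.commutator_le_left M M) fun h => ?_
    haveI := hsol
    haveI : Nontrivial M := (Subgroup.nontrivial_iff_ne_bot M).mpr hMne
    refine (Group.IsSolvable.commutator_lt_top_of_nontrivial M).ne ?_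
    apply Subgroup.map_injective M.subtype_injective
    rw [commutator_def, Subgroup.map_commutator, ← MonoidHom.range_eq_map, Subgroup.range_subtype]
    exact h
  have hcm : ∀ a ∈ M, ∀ b ∈ M, ⁅a, b⁆ ∈ A := fun a ha b hb =>
    hcommle (Subgroup.commutator_mem_commutator ha hb)
  obtain ⟨u, huM, huA⟩ := SetLike.not_le_iff_exists.mp hMA
  set o := orderOf (QuotientGroup.mk' A u) with ho
  have ho1 : o ≠ 1 := fun h => huA ((QuotientGroup.eq_one_iff u).mp (orderOf_eq_one_iff.mp h))
  set s := o.minFac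
  have hs : s.Prime := Nat.minFac_prime ho1
  let π := QuotientGroup.mk' A
  have hπ : ∀ a ∈ M, ∀ b ∈ M, Commute (π a) (π b) := fun a ha b hb => by
    have h1 : π ⁅a, b⁆ = 1 := (QuotientGroup.eq_one_iff _).mpr (hcm a ha b hb)
    rw [map_commutatorElement] at h1
    exact commutatorElement_eq_one_iff_mul_comm.mp h1
  let K : Subgroup G :=
    { carrier := {a | a ∈ M ∧ π a ^ s = 1}
      one_mem' := ⟨one_mem _, by rw [map_one, one_pow]⟩
      mul_mem' := fun {a b} ha hb => ⟨mul_mem ha.1 hb.1, by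
        rw [map_mul, (hπ a ha.1 b hb.1).mul_pow, ha.2, hb.2, one_mul]⟩
      inv_mem' := fun {a} ha => ⟨inv_mem ha.1, by rw [map_inv, inv_pow, ha.2, inv_one]⟩ }
  haveI hKn : K.Normal := ⟨fun a ha g => ⟨hMn.conj_mem a ha.1 g, by
    rw [map_mul, map_mul, map_inv, conj_pow, ha.2, mul_one, mul_inv_cancel]⟩⟩
  have hKA : ¬ K ≤ A := by
    intro h
    have hw : u ^ (o / s) ∈ K := ⟨pow_mem huM _, by
      rw [map_pow, ← pow_mul, Nat.div_mul_cancel (Nat.minFac_dvd o)]
      exact pow_orderOf_eq_one _⟩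
    have h2 : π u ^ (o / s) = 1 := by
      rw [← map_pow]; exact (QuotientGroup.eq_one_iff _).mpr (h hw)
    have ho0 : 0 < o := orderOf_pos _
    have h3 := orderOf_le_of_pow_eq_one
      (Nat.div_pos (Nat.minFac_le ho0) hs.pos) h2
    exact absurd h3 (not_le.mpr (Nat.div_lt_self ho0 hs.one_lt))
  have hKM : K = M := by
    by_contra h
    exact hKA (hmin K hKn (fun a ha => ha.1) h)
  let Z : Subgroup G := M ⊓ Subgroup.centralizer (M : Set G)
  have hZc : ∀ a ∈ A ⊔ Z, ∀ b ∈ A ⊔ Z, a * b = b * a := by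
    have h1 : A ≤ Subgroup.centralizer ((A ⊔ Z : Subgroup G) : Set G) := by
      rw [Subgroup.le_centralizer_iff]
      exact sup_le (fun a ha => Subgroup.mem_centralizer_iff.mpr fun b hb => hA.comm b hb a ha)
        (inf_le_left.trans hMC)
    have h2 : Z ≤ Subgroup.centralizer ((A ⊔ Z : Subgroup G) : Set G) := by
      rw [Subgroup.le_centralizer_iff]
      refine sup_le ?_ fun a ha => Subgroup.mem_centralizer_iff.mpr fun b hb => ?_
      · rw [Subgroup.le_centralizer_iff]
        exact inf_le_left.trans hMC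
      · exact (Subgroup.mem_centralizer_iff.mp hb.2 a ha.1).symm
    intro a ha b hb
    exact (Subgroup.mem_centralizer_iff.mp ((sup_le h1 h2) ha) b hb).symm
  refine ⟨M, s, hs, hMn, hMC, hMA, fun a ha => ?_, hcm, fun a ha hac => ?_⟩
  · have h1 : a ∈ K := hKM ▸ ha
    exact (QuotientGroup.eq_one_iff _).mp ((map_pow π a s).trans h1.2)
  · exact hA.max _ inferInstance hZc le_sup_left
      (Subgroup.mem_sup_right ⟨ha, Subgroup.mem_centralizer_iff.mpr fun b hb => (hac b hb).symm⟩)

variable {q : ℕ} [Fact q.Prime] {V : Type u} [AddCommGroup V] [Module (ZMod q) V]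
variable (ρ : G →* (V ≃ₗ[ZMod q] V))

/-- The hypotheses on a solvable transitive linear group with a chosen `A`. -/
structure Setup (A : Subgroup G) : Prop where
  inj : Function.Injective ρ
  trans : ∀ v w : V, v ≠ 0 → w ≠ 0 → ∃ g : G, ρ g v = w
  maxAb : IsMaxAb A

variable {ρ} {A : Subgroup G}

theorem Setup.smul_ne_zero' [Finite V] (h : Setup ρ A) {a : Module.End (ZMod q) V}
    (ha : a ∈ envAlg ρ A) (ha0 : a ≠ 0) {v : V} (hv : v ≠ 0) : a v ≠ 0 :=
  haveI := h.maxAb.normal
  injective_of_ne_zero ρ h.trans h.maxAb.comm ha ha0 hv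

theorem Setup.isField [Finite V] [Nontrivial V] (h : Setup ρ A) : IsField (envAlg ρ A) := by
  classical
  haveI : Finite (Module.End (ZMod q) V) := Finite.of_injective _ DFunLike.coe_injective
  obtain ⟨v, hv⟩ := exists_ne (0 : V)
  have hone : (1 : Module.End (ZMod q) V) ≠ 0 := fun h0 =>
    hv (congrFun (congrArg DFunLike.coe h0) v)
  refine ⟨⟨0, 1, fun h0 => hone (congrArg Subtype.val h0).symm⟩,
    fun a b => Subtype.ext (envAlg_comm ρ h.maxAb.comm a a.2 b b.2), fun {a} ha => ?_⟩
  have hinj : Function.Injective fun b : envAlg ρ A => a * b := by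
    intro b c hbc
    by_contra hne
    have hne' : (b : Module.End (ZMod q) V) - c ≠ 0 :=
      fun h0 => hne (Subtype.ext (sub_eq_zero.mp h0))
    obtain ⟨u, hu⟩ : ∃ u, ((b : Module.End (ZMod q) V) - c) u ≠ 0 := by
      by_contra hh
      push Not at hh
      exact hne' (LinearMap.ext hh)
    refine h.smul_ne_zero' a.2 (fun h0 => ha (Subtype.ext h0)) hu ?_
    have h2 := congrArg Subtype.val hbc
    rw [← Module.End.mul_apply, mul_sub]
    simp only [MulMemClass.coe_mul] at h2
    rw [h2, sub_self, LinearMap.zero_apply]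
  obtain ⟨b, hb⟩ := Finite.surjective_of_injective hinj 1
  exact ⟨b, hb⟩

/-- The field of `A`. -/
noncomputable abbrev Setup.field [Finite V] [Nontrivial V] (h : Setup ρ A) :
    Field (envAlg ρ A) := h.isField.toField

/-- The bound on the index of the centralizer of `A`, and the automorphisms. -/
theorem Setup.centralizer_index_dvd [Finite V] [Nontrivial V] (h : Setup ρ A) :
    (Subgroup.centralizer (A : Set G)).index ∣ Module.finrank (ZMod q) (envAlg ρ A) := by
  classical
  haveI := h.maxAb.normal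
  haveI : Finite (Module.End (ZMod q) V) := Finite.of_injective _ DFunLike.coe_injective
  letI := h.field
  have hc : ∀ (g : G) (a : envAlg ρ A), conjEnd ρ g a ∈ envAlg ρ A := fun g a =>
    conjEnd_mem ρ g a.2
  let f : G → (envAlg ρ A ≃ₐ[ZMod q] envAlg ρ A) := fun g =>
    AlgEquiv.ofBijective (((conjEnd ρ g).comp (envAlg ρ A).val).codRestrict _ (hc g))
      (Finite.injective_iff_bijective.mp fun a b hab => Subtype.ext (by
        have h2 : conjEnd ρ g a = conjEnd ρ g b := congrArg Subtype.val hab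
        have h3 := congrArg (conjEnd ρ g⁻¹) h2
        rwa [← conjEnd_mul_apply, ← conjEnd_mul_apply, inv_mul_cancel, conjEnd_apply, conjEnd_apply,
          inv_one, map_one, one_mul, one_mul, mul_one, mul_one] at h3))
  let φ : G →* (envAlg ρ A ≃ₐ[ZMod q] envAlg ρ A) :=
    MonoidHom.mk' f fun g g' => AlgEquiv.ext fun a => Subtype.ext (conjEnd_mul_apply ρ g g' a)
  have hker : φ.ker = Subgroup.centralizer (A : Set G) := by
    ext g
    rw [MonoidHom.mem_ker, Subgroup.mem_centralizer_iff]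
    constructor
    · intro hg a ha
      have h2 := congrArg (fun e : envAlg ρ A ≃ₐ[ZMod q] envAlg ρ A =>
        ((e ⟨_, toEnd_mem_envAlg ρ ha⟩ : envAlg ρ A) : Module.End (ZMod q) V)) hg
      have h3 : conjEnd ρ g (toEnd ρ a) = toEnd ρ a := h2
      rw [conjEnd_toEnd] at h3
      exact (mul_inv_eq_iff_eq_mul.mp (toEnd_injective ρ h.inj h3)).symm
    · intro hg
      refine AlgEquiv.ext fun a => Subtype.ext ?_
      show conjEnd ρ g a = a
      rw [conjEnd_apply, ← commute_envAlg ρ (f := toEnd ρ g) (fun x hx => by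
        rw [← map_mul, ← map_mul, hg x hx]) a.2, mul_assoc, toEnd_cancel_inv, mul_one]
  haveI : FiniteDimensional (ZMod q) (envAlg ρ A) := Module.Finite.of_finite
  rw [← hker, Subgroup.index_ker, ← IsGalois.card_aut_eq_finrank (ZMod q) (envAlg ρ A)]
  exact Subgroup.card_subgroup_dvd_card φ.range

/-- Orders of elements of `A` divide `q ^ d - 1`. -/
theorem Setup.card_dvd [Finite V] [Nontrivial V] (h : Setup ρ A) :
    Nat.card A ∣ q ^ Module.finrank (ZMod q) (envAlg ρ A) - 1 := by
  classical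
  haveI : Finite (Module.End (ZMod q) V) := Finite.of_injective _ DFunLike.coe_injective
  letI := h.field
  let f : A →* envAlg ρ A :=
    { toFun := fun a => ⟨toEnd ρ a, toEnd_mem_envAlg ρ a.2⟩
      map_one' := Subtype.ext (map_one _)
      map_mul' := fun a b => Subtype.ext (map_mul _ _ _) }
  have hf : Function.Injective f.toHomUnits := fun a b hab => by
    have h2 := congrArg Units.val hab
    exact Subtype.ext (toEnd_injective ρ h.inj (congrArg Subtype.val h2))
  haveI : Fintype (envAlg ρ A) := Fintype.ofFinite _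
  have := Subgroup.card_dvd_of_injective f.toHomUnits hf
  rwa [Nat.card_units, Module.natCard_eq_pow_finrank (K := ZMod q) (V := envAlg ρ A),
    Nat.card_zmod] at this

theorem Setup.prime_order_ne [Finite V] [Nontrivial V] [Finite G] (h : Setup ρ A)
    (hd : 0 < Module.finrank (ZMod q) (envAlg ρ A)) {a : G} (ha : a ∈ A) : orderOf a ≠ q := by
  intro ho
  have h1 := (ho ▸ Subgroup.orderOf_dvd_natCard A ha).trans h.card_dvd
  have hq := (Fact.out : q.Prime)
  have h2 : q ∣ q ^ Module.finrank (ZMod q) (envAlg ρ A) := dvd_pow_self q hd.ne'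
  have h3 := Nat.dvd_sub h2 h1
  rw [Nat.sub_sub_self (Nat.one_le_pow _ _ hq.pos)] at h3
  exact hq.not_dvd_one h3

/-- Homomorphisms to a domain trivial on a normal subgroup are at most its index. -/
theorem card_le_index {H : Type*} [Group H] [Finite H] {ι : Type*} [Finite ι] {R : Type*}
    [Field R] (N : Subgroup H) [N.Normal] (f : ι → (H →* R)) (hf : Function.Injective f)
    (hN : ∀ i, ∀ x ∈ N, f i x = 1) : Nat.card ι ≤ N.index := by
  classical
  haveI := Fintype.ofFinite (H ⧸ N)
  haveI := Fintype.ofFinite ι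
  let g : ι → ((H ⧸ N) →* R) := fun i => QuotientGroup.lift N (f i) (fun x hx => hN i x hx)
  have hg : Function.Injective g := fun i j hij => hf (MonoidHom.ext fun x => by
    have := congrFun (congrArg DFunLike.coe hij) (x : H ⧸ N)
    simp only [g, QuotientGroup.lift_mk] at this
    exact this)
  have hli : LinearIndependent R (fun i => (g i : (H ⧸ N) → R)) :=
    (linearIndependent_monoidHom (H ⧸ N) R).comp g hg
  have := hli.fintype_card_le_finrank
  rwa [Module.finrank_fintype_fun_eq_card, ← Nat.card_eq_fintype_card, ← Nat.card_eq_fintype_card,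
    ← Subgroup.index_eq_card] at this

variable {M : Subgroup G} {s : ℕ}

theorem Setup.commute_envAlg' (h : Setup ρ A) {g : G} (hg : g ∈ Subgroup.centralizer (A : Set G))
    {a : Module.End (ZMod q) V} (ha : a ∈ envAlg ρ A) : a * toEnd ρ g = toEnd ρ g * a :=
  commute_envAlg ρ (fun x hx => by
    rw [← map_mul, ← map_mul, Subgroup.mem_centralizer_iff.mp hg x hx]) ha

/-- The commutator pairing of `M` as homomorphisms to the field of `A`. -/
def IsSymp.chi (hS : IsSymp A M s) (ρ : G →* (V ≃ₗ[ZMod q] V)) (u : M) : M →* envAlg ρ A where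
  toFun v := ⟨toEnd ρ ⁅(u : G), (v : G)⁆, toEnd_mem_envAlg ρ (hS.comm_mem u u.2 v v.2)⟩
  map_one' := Subtype.ext (by simp)
  map_mul' v w := Subtype.ext (by
    show toEnd ρ ⁅(u : G), ((v * w : M) : G)⁆ = toEnd ρ ⁅(u : G), (v : G)⁆ * toEnd ρ ⁅(u : G), (w : G)⁆
    rw [← map_mul]
    congr 1
    have h2 : ⁅(u : G), (w : G)⁆ * v = v * ⁅(u : G), (w : G)⁆ :=
      Subgroup.mem_centralizer_iff.mp (hS.le_centralizer v.2) _ (hS.comm_mem u u.2 w w.2)
    calc ⁅(u : G), ((v * w : M) : G)⁆
        = ⁅(u : G), (v : G)⁆ * ((v : G) * ⁅(u : G), (w : G)⁆ * (v : G)⁻¹) := by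
          simp [commutatorElement_def, mul_assoc]
      _ = _ := by rw [← h2, mul_inv_cancel_right])

theorem IsSymp.chi_apply (hS : IsSymp A M s) (u v : M) :
    ((hS.chi ρ u v : envAlg ρ A) : Module.End (ZMod q) V) = toEnd ρ ⁅(u : G), (v : G)⁆ := rfl

theorem IsSymp.chi_mul (hS : IsSymp A M s) (u u' v : M) :
    hS.chi ρ (u * u') v = hS.chi ρ u' v * hS.chi ρ u v := Subtype.ext (by
  rw [MulMemClass.coe_mul, hS.chi_apply, hS.chi_apply, hS.chi_apply, ← map_mul]
  congr 1
  have h2 : ⁅(u' : G), (v : G)⁆ * u = u * ⁅(u' : G), (v : G)⁆ :=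
    Subgroup.mem_centralizer_iff.mp (hS.le_centralizer u.2) _ (hS.comm_mem u' u'.2 v v.2)
  calc ⁅((u * u' : M) : G), (v : G)⁆
      = (u : G) * ⁅(u' : G), (v : G)⁆ * (u : G)⁻¹ * ⁅(u : G), (v : G)⁆ := by
        simp [commutatorElement_def, mul_assoc]
    _ = _ := by rw [← h2, mul_inv_cancel_right])

theorem IsSymp.chi_eq_one_iff (hS : IsSymp A M s) (hρ : Function.Injective ρ) (u v : M) :
    hS.chi ρ u v = 1 ↔ (u : G) * v = v * u := by
  rw [← commutatorElement_eq_one_iff_mul_comm]
  constructor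
  · intro h
    have h2 : toEnd ρ ⁅(u : G), (v : G)⁆ = 1 := congrArg Subtype.val h
    exact toEnd_injective ρ hρ (h2.trans (map_one _).symm)
  · intro h
    exact Subtype.ext (by rw [hS.chi_apply, h, map_one]; rfl)

theorem IsSymp.chi_trivial (hS : IsSymp A M s) (hρ : Function.Injective ρ) {u : M}
    (h : ∀ v : M, hS.chi ρ u v = 1) : (u : G) ∈ A :=
  hS.center_le u u.2 fun b hb => (hS.chi_eq_one_iff hρ u ⟨b, hb⟩).mp (h ⟨b, hb⟩)

theorem IsSymp.chi_of_mem (hS : IsSymp A M s) (hρ : Function.Injective ρ) {u : M}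
    (hu : (u : G) ∈ A) (v : M) : hS.chi ρ u v = 1 :=
  (hS.chi_eq_one_iff hρ u v).mpr (Subgroup.mem_centralizer_iff.mp (hS.le_centralizer v.2) _ hu)

theorem IsSymp.chi_mul_inv (hS : IsSymp A M s) (hρ : Function.Injective ρ) (u v : M) :
    hS.chi ρ u⁻¹ v * hS.chi ρ u v = 1 := by
  rw [← hS.chi_mul, mul_inv_cancel]
  exact hS.chi_of_mem hρ (one_mem A) v

section Main

variable [Finite V] [Nontrivial V] [Finite G]

theorem Setup.s_ne (h : Setup ρ A) (hS : IsSymp A M s)
    (hd : 0 < Module.finrank (ZMod q) (envAlg ρ A)) : s ≠ q := by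
  intro hsq
  obtain ⟨u, huM, huA⟩ := SetLike.not_le_iff_exists.mp hS.not_le
  refine huA (hS.chi_trivial h.inj (u := ⟨u, huM⟩) fun v => ?_)
  rw [hS.chi_eq_one_iff h.inj]
  have hpow : ⁅u, (v : G)⁆ ^ s = 1 := by
    have h1 : hS.chi ρ ⟨u, huM⟩ v ^ s = 1 := by
      rw [← map_pow]
      refine (hS.chi_eq_one_iff h.inj _ _).mpr ?_
      have h2 := hS.pow_mem v v.2
      exact (Subgroup.mem_centralizer_iff.mp (hS.le_centralizer huM) _ h2).symm
    have h2 : toEnd ρ (⁅u, (v : G)⁆ ^ s) = 1 := by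
      rw [map_pow]; exact congrArg Subtype.val h1
    exact toEnd_injective ρ h.inj (h2.trans (map_one _).symm)
  by_contra hne
  haveI := Fact.mk hS.prime
  exact h.prime_order_ne hd (hS.comm_mem u huM v v.2)
    (hsq ▸ orderOf_eq_prime hpow fun h0 => hne (commutatorElement_eq_one_iff_mul_comm.mp h0))

theorem Setup.not_dvd_card (h : Setup ρ A) (hS : IsSymp A M s) {p : ℕ} (hp : p.Prime)
    (hps : p ≠ s) (hA : ¬ p ∣ Nat.card A) : ¬ p ∣ Nat.card M := by
  haveI := Fact.mk hp
  intro hdvd
  obtain ⟨y, hy⟩ := exists_prime_orderOf_dvd_card' p hdvd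
  have hcop : Nat.Coprime (orderOf (y : G)) s := by
    rw [Subgroup.orderOf_coe, hy]
    exact (Nat.coprime_primes hp hS.prime).mpr hps
  have := Subgroup.orderOf_dvd_natCard A (hS.pow_mem y y.2)
  rw [hcop.orderOf_pow, Subgroup.orderOf_coe, hy] at this
  exact hA this

/-- The index of `A` in `M` is an even power of `s`, at most the square of the dimension, and in
the case of equality the centralizer of `M` consists of scalars. -/
theorem Setup.symp_bound (h : Setup ρ A) (hS : IsSymp A M s) :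
    ∃ m : ℕ, 0 < m ∧ (A.subgroupOf M).index = s ^ (2 * m) ∧
      s ^ m * Module.finrank (ZMod q) (envAlg ρ A) ≤ Module.finrank (ZMod q) V ∧
      (s ^ m * Module.finrank (ZMod q) (envAlg ρ A) = Module.finrank (ZMod q) V →
        ∀ g ∈ Subgroup.centralizer (A : Set G), (∀ u ∈ M, g * u = u * g) →
          toEnd ρ g ∈ envAlg ρ A) := by
  classical
  haveI := h.maxAb.normal
  haveI := hS.normal
  haveI : Finite (Module.End (ZMod q) V) := Finite.of_injective _ DFunLike.coe_injective
  letI := h.field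
  haveI : FiniteDimensional (envAlg ρ A) V := Module.Finite.of_finite
  haveI := Fintype.ofFinite M
  set d := Module.finrank (ZMod q) ↥(envAlg ρ A)
  set l := Module.finrank ↥(envAlg ρ A) V
  have hdl : d * l = Module.finrank (ZMod q) V := Module.finrank_mul_finrank (ZMod q) ↥(envAlg ρ A) V
  haveI : FiniteDimensional (ZMod q) ↥(envAlg ρ A) := Module.Finite.of_finite
  have hd : 0 < d := Module.finrank_pos
  set Z := A.subgroupOf M with hZ
  haveI hZn : Z.Normal := Subgroup.Normal.subgroupOf inferInstance M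
  haveI := Fintype.ofFinite (M ⧸ Z)
  have hmemZ : ∀ u : M, u ∈ Z ↔ (u : G) ∈ A := fun u => Subgroup.mem_subgroupOf
  -- the operators
  let TR : ∀ g : G, g ∈ Subgroup.centralizer (A : Set G) → Module.End ↥(envAlg ρ A) V := fun g hg =>
    { toFun := fun v => ρ g v
      map_add' := map_add _
      map_smul' := fun a v => (congrFun (congrArg DFunLike.coe (h.commute_envAlg' hg a.2)) v).symm }
  let Tu : M → Module.End ↥(envAlg ρ A) V := fun u => TR u (hS.le_centralizer u.2)
  have hTu : ∀ (u : M) (v : V), Tu u v = ρ (u : G) v := fun u v => rfl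
  have hconj : ∀ (w u : M) (v : V),
      Tu w (Tu u (Tu w⁻¹ v)) = (hS.chi ρ u⁻¹ w : ↥(envAlg ρ A)) • Tu u v := by
    intro w u v
    show ρ (w : G) (ρ (u : G) (ρ ((w⁻¹ : M) : G) v)) =
      toEnd ρ ⁅((u⁻¹ : M) : G), (w : G)⁆ (ρ (u : G) v)
    rw [toEnd_apply, ← LinearEquiv.mul_apply, ← LinearEquiv.mul_apply, ← LinearEquiv.mul_apply,
      ← map_mul, ← map_mul, ← map_mul]
    congr 2
    have h2 : ⁅((u⁻¹ : M) : G), (w : G)⁆ * u = u * ⁅((u⁻¹ : M) : G), (w : G)⁆ :=
      Subgroup.mem_centralizer_iff.mp (hS.le_centralizer u.2) _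
        (hS.comm_mem _ (u⁻¹).2 w w.2)
    rw [h2]
    simp [commutatorElement_def, mul_assoc]
  have hM0 : ((Fintype.card M : ℕ) : ↥(envAlg ρ A)) ≠ 0 := by
    haveI : CharP ↥(envAlg ρ A) q := charP_of_injective_algebraMap (algebraMap (ZMod q) ↥(envAlg ρ A)).injective q
    rw [Ne, CharP.cast_eq_zero_iff ↥(envAlg ρ A) q, ← Nat.card_eq_fintype_card]
    refine h.not_dvd_card hS Fact.out (h.s_ne hS hd).symm fun hdvd => ?_
    obtain ⟨a, ha⟩ := exists_prime_orderOf_dvd_card' q hdvd
    exact h.prime_order_ne hd a.2 (by rw [Subgroup.orderOf_coe]; exact ha)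
  let b : M ⧸ Z → Module.End ↥(envAlg ρ A) V := fun c => Tu c.out
  have hli : LinearIndependent ↥(envAlg ρ A) b := by
    rw [Fintype.linearIndependent_iff]
    intro c hc j
    have key : ∀ v : V, ∑ w : M, (hS.chi ρ j.out w : ↥(envAlg ρ A)) •
        Tu w ((∑ i, c i • b i) (Tu w⁻¹ v)) = ((Fintype.card M : ↥(envAlg ρ A)) * c j) • b j v := by
      intro v
      simp only [LinearMap.sum_apply, LinearMap.smul_apply, map_sum, map_smul, b, hconj,
        Finset.smul_sum, smul_smul]
      rw [Finset.sum_comm, Finset.sum_eq_single j]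
      · rw [← Finset.sum_smul]
        congr 1
        rw [Finset.sum_eq_card_nsmul (b := c j)]
        · rw [nsmul_eq_mul, Finset.card_univ]
        · intro w _
          rw [mul_left_comm, mul_comm (hS.chi ρ j.out w), hS.chi_mul_inv h.inj, mul_one]
      · intro i _ hij
        rw [← Finset.sum_smul]
        have hsum : ∑ w : M, (hS.chi ρ ((i.out)⁻¹ * j.out) w : ↥(envAlg ρ A)) = 0 := by
          refine sum_hom_units_eq_zero _ fun h1 => hij ?_
          have h2 := hS.chi_trivial h.inj (u := (i.out)⁻¹ * j.out) fun w => by rw [h1]; rfl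
          rw [← i.out_eq', ← j.out_eq', QuotientGroup.eq]
          exact (hmemZ _).mpr h2
        have h3 : ∑ w : M, (hS.chi ρ j.out w : ↥(envAlg ρ A)) * (c i * hS.chi ρ (i.out)⁻¹ w) =
            c i * ∑ w : M, (hS.chi ρ ((i.out)⁻¹ * j.out) w : ↥(envAlg ρ A)) := by
          rw [Finset.mul_sum]
          refine Finset.sum_congr rfl fun w _ => ?_
          rw [hS.chi_mul]; ring
        rw [h3, hsum, mul_zero, zero_smul]
      · exact fun hj => absurd (Finset.mem_univ j) hj
    by_contra hcj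
    obtain ⟨v, hv⟩ := exists_ne (0 : V)
    have := key v
    rw [hc] at this
    simp only [LinearMap.zero_apply, map_zero, smul_zero, Finset.sum_const_zero] at this
    rcases smul_eq_zero.mp this.symm with h1 | h1
    · exact (mul_ne_zero hM0 hcj) h1
    · exact hv ((ρ (j.out : G)).map_eq_zero_iff.mp h1)
  have hbound : Z.index ≤ l * l := by
    have := hli.fintype_card_le_finrank
    rwa [Module.finrank_linearMap, ← Nat.card_eq_fintype_card,
      ← Subgroup.index_eq_card] at this
  -- the index is a square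
  obtain ⟨B, hB, hBmax⟩ := Set.Finite.exists_maximalFor (fun B : Subgroup M => Nat.card B)
    {B : Subgroup M | Z ≤ B ∧ ∀ a ∈ B, ∀ c ∈ B, a * c = c * a} (Set.toFinite _)
    ⟨Z, le_rfl, fun a ha c hc => Subtype.ext (h.maxAb.comm _ ((hmemZ a).mp ha) _ ((hmemZ c).mp hc))⟩
  obtain ⟨hZB, hBc⟩ := hB
  have hBself : ∀ u : M, (∀ c ∈ B, u * c = c * u) → u ∈ B := by
    intro u hu
    have hle : B ≤ B ⊔ Subgroup.zpowers u := le_sup_left
    refine (Subgroup.eq_of_le_of_card_ge hle (hBmax ⟨hZB.trans hle, ?_⟩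
      (Subgroup.card_le_of_le hle))).ge (Subgroup.mem_sup_right (Subgroup.mem_zpowers u))
    have h1 : B ≤ Subgroup.centralizer ((B ⊔ Subgroup.zpowers u : Subgroup M) : Set M) := by
      rw [Subgroup.le_centralizer_iff]
      exact sup_le (fun a ha => Subgroup.mem_centralizer_iff.mpr fun c hc => hBc c hc a ha)
        (Subgroup.zpowers_le.mpr (Subgroup.mem_centralizer_iff.mpr fun c hc => (hu c hc).symm))
    have h2 : Subgroup.zpowers u ≤
        Subgroup.centralizer ((B ⊔ Subgroup.zpowers u : Subgroup M) : Set M) := by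
      rw [Subgroup.zpowers_le, Subgroup.mem_centralizer_iff]
      intro a ha
      have h3 : B ⊔ Subgroup.zpowers u ≤ Subgroup.centralizer ({u} : Set M) :=
        sup_le (fun c hc => Subgroup.mem_centralizer_singleton_iff.mpr (hu c hc).symm)
          (Subgroup.zpowers_le.mpr (Subgroup.mem_centralizer_singleton_iff.mpr rfl))
      exact Subgroup.mem_centralizer_singleton_iff.mp (h3 ha)
    intro a ha c hc
    exact (Subgroup.mem_centralizer_iff.mp ((sup_le h1 h2) ha) c hc).symm
  haveI hBn : B.Normal := ⟨fun a ha u => by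
    have h2 : ⁅u, a⁆ ∈ Z := (hmemZ _).mpr (hS.comm_mem u u.2 a a.2)
    have h4 : u * a * u⁻¹ = ⁅u, a⁆ * a := by rw [commutatorElement_def, inv_mul_cancel_right]
    rw [h4]
    exact mul_mem (hZB h2) ha⟩
  have hfirst : Nat.card (M ⧸ B) ≤ (Z.subgroupOf B).index := by
    refine card_le_index (R := ↥(envAlg ρ A)) (Z.subgroupOf B) (fun c => (hS.chi ρ c.out).comp B.subtype)
      (fun c c' hcc => ?_) fun c x hx => ?_
    · rw [← c.out_eq', ← c'.out_eq', QuotientGroup.eq]
      refine hBself _ fun x hx => Subtype.ext ((hS.chi_eq_one_iff h.inj _ x).mp ?_)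
      have h3 : hS.chi ρ c.out x = hS.chi ρ c'.out x :=
        congrFun (congrArg DFunLike.coe hcc) ⟨x, hx⟩
      rw [hS.chi_mul, ← h3, mul_comm, hS.chi_mul_inv h.inj]
    · refine (hS.chi_eq_one_iff h.inj _ _).mpr ?_
      have h2 : ((x : M) : G) ∈ A := (hmemZ _).mp (Subgroup.mem_subgroupOf.mp hx)
      exact (Subgroup.mem_centralizer_iff.mp (hS.le_centralizer (c.out).2) _ h2).symm
  have hsecond : Nat.card (B ⧸ Z.subgroupOf B) ≤ B.index := by
    refine card_le_index (R := ↥(envAlg ρ A)) B (fun c => hS.chi ρ (c.out : M)) (fun c c' hcc => ?_)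
      fun c x hx => ?_
    · rw [← c.out_eq', ← c'.out_eq', QuotientGroup.eq]
      refine Subgroup.mem_subgroupOf.mpr ((hmemZ _).mpr (hS.chi_trivial h.inj fun w => ?_))
      rw [Subgroup.coe_mul, hS.chi_mul, ← congrFun (congrArg DFunLike.coe hcc) w, mul_comm,
        Subgroup.coe_inv, hS.chi_mul_inv h.inj]
    · exact (hS.chi_eq_one_iff h.inj _ x).mpr
        (congrArg Subtype.val (hBc _ (c.out).2 x hx))
  rw [← Subgroup.index_eq_card] at hfirst hsecond
  have heq : B.index = Z.relIndex B := le_antisymm hfirst hsecond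
  have hsq : Z.index = B.index * B.index := by
    rw [← Subgroup.relIndex_mul_index hZB, ← heq]
  haveI := Fact.mk hS.prime
  have hp : IsPGroup s (M ⧸ Z) := fun c => ⟨1, by
    rw [pow_one]
    refine QuotientGroup.induction_on c fun u => ?_
    rw [← QuotientGroup.mk_pow, QuotientGroup.eq_one_iff]
    exact (hmemZ _).mpr (hS.pow_mem u u.2)⟩
  obtain ⟨k, hk⟩ := IsPGroup.iff_card.mp hp
  rw [← Subgroup.index_eq_card] at hk
  obtain ⟨m, -, hm⟩ := (Nat.dvd_prime_pow hS.prime).mp
    (show B.index ∣ s ^ k from hk ▸ hsq ▸ dvd_mul_right _ _)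
  have hidx : Z.index = s ^ (2 * m) := by rw [hsq, hm, ← pow_add, two_mul]
  have hm0 : 0 < m := by
    rcases Nat.eq_zero_or_pos m with rfl | hpos
    · rw [mul_zero, pow_zero, Subgroup.index_eq_one, hZ, Subgroup.subgroupOf_eq_top] at hidx
      exact absurd hidx hS.not_le
    · exact hpos
  have hsml : s ^ m ≤ l := by
    rw [hidx, two_mul, pow_add] at hbound
    exact Nat.mul_self_le_mul_self_iff.mp hbound
  refine ⟨m, hm0, hidx, ?_, fun heq' g hg hgu => ?_⟩
  · rw [← hdl, mul_comm d]
    exact Nat.mul_le_mul_right d hsml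
  · have hl : s ^ m = l := by
      rw [← hdl, mul_comm d] at heq'
      exact Nat.eq_of_mul_eq_mul_right hd heq'
    have hspan : Submodule.span ↥(envAlg ρ A) (Set.range b) = ⊤ := hli.span_eq_top_of_card_eq_finrank' (by
      rw [Module.finrank_linearMap, ← Nat.card_eq_fintype_card, ← Subgroup.index_eq_card,
        hidx, two_mul, pow_add, hl])
    have hcomm : ∀ f : Module.End ↥(envAlg ρ A) V, ∀ v, f (ρ g v) = ρ g (f v) := by
      intro f
      have hf : f ∈ Submodule.span ↥(envAlg ρ A) (Set.range b) := hspan ▸ Submodule.mem_top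
      induction hf using Submodule.span_induction with
      | mem f hf =>
        obtain ⟨c, rfl⟩ := hf
        intro v
        show ρ (c.out : G) (ρ g v) = ρ g (ρ (c.out : G) v)
        rw [← LinearEquiv.mul_apply, ← LinearEquiv.mul_apply, ← map_mul, ← map_mul,
          hgu _ (c.out).2]
      | zero => intro v; simp
      | add x y _ _ hx hy => intro v; simp [hx v, hy v]
      | smul a x _ hx =>
        intro v
        show a • x (ρ g v) = ρ g (a • x v)
        rw [hx v]
        exact ((TR g hg).map_smul a (x v)).symm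
    obtain ⟨v₀, hv₀⟩ := exists_ne (0 : V)
    obtain ⟨φ, hφ⟩ : ∃ φ : V →ₗ[↥(envAlg ρ A)] ↥(envAlg ρ A), φ v₀ = 1 := by
      obtain ⟨φ, hφ⟩ : ∃ φ : V →ₗ[↥(envAlg ρ A)] ↥(envAlg ρ A), φ v₀ ≠ 0 := by
        by_contra hh
        push Not at hh
        exact hv₀ ((Module.forall_dual_apply_eq_zero_iff ↥(envAlg ρ A) v₀).mp hh)
      exact ⟨(φ v₀)⁻¹ • φ, by rw [LinearMap.smul_apply, smul_eq_mul, inv_mul_cancel₀ hφ]⟩
    have hscal : toEnd ρ g = ((φ (ρ g v₀) : ↥(envAlg ρ A)) : Module.End (ZMod q) V) := by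
      refine LinearMap.ext fun v => ?_
      have := hcomm (φ.smulRight v) v₀
      rw [LinearMap.smulRight_apply, LinearMap.smulRight_apply, hφ, one_smul] at this
      exact this.symm
    rw [hscal]
    exact (φ (ρ g v₀)).2

end Main

end Cfsg.Agent.Lib.SolvTransLinear
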